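import Cfsg.Agent.Lib.Coprime.Action
import Cfsg.Agent.Lib.Coprime.Glauberman
import Cfsg.Agent.Lib.UniquePointInvolution.Basic
import Cfsg.Agent.Lib.Involutions.Basic

/-!
# An automorphism of coprime order centralising the centralizer of an involution

Owner: helper11. Elementary facts on the fixed subgroup of `α` and the subgroups `[Y, α]`.
-/

set_option autoImplicit false
set_option linter.unusedSectionVars false
set_option linter.style.haveILetI false

namespace Cfsg.Agent.Lib.CoprimeInvol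

open Subgroup
open Cfsg.Agent.Lib.Involutions.Basic

variable {L : Type*} [Group L]

/-- The fixed subgroup of an automorphism. -/
def fixedSub (α : MulAut L) : Subgroup L where
  carrier := {x | α x = x}
  one_mem' := map_one α
  mul_mem' := fun {x y} hx hy => by
    simp only [Set.mem_ofPred_eq] at *; rw [map_mul, hx, hy]
  inv_mem' := fun {x} hx => by
    simp only [Set.mem_ofPred_eq] at *; rw [map_inv, hx]

variable {α : MulAut L}

theorem mem_fixedSub {x : L} : x ∈ fixedSub α ↔ α x = x := Iff.rfl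

/-- `[Y, α]`. -/
def commSub (α : MulAut L) (Y : Subgroup L) : Subgroup L :=
  closure {z | ∃ y ∈ Y, z = y⁻¹ * α y}

/-- An involution whose centralizer is fixed elementwise. -/
def Good (α : MulAut L) (g : L) : Prop := orderOf g = 2 ∧ ∀ x, Commute x g → α x = x

/-- Invariance under `α`. -/
def Inv' (α : MulAut L) (Y : Subgroup L) : Prop := ∀ y ∈ Y, α y ∈ Y

/-- `z` normalises `Y`. -/
def Norms (z : L) (Y : Subgroup L) : Prop := ∀ y ∈ Y, z * y * z⁻¹ ∈ Y

theorem mem_cent {a x : L} : x ∈ centralizer ({a} : Set L) ↔ Commute x a :=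
  mem_centralizer_singleton_iff.trans Iff.rfl

theorem commSub_mem {Y : Subgroup L} {y : L} (hy : y ∈ Y) : y⁻¹ * α y ∈ commSub α Y :=
  subset_closure ⟨y, hy, rfl⟩

theorem commSub_le {Y : Subgroup L} (hY : Inv' α Y) : commSub α Y ≤ Y := by
  refine (closure_le Y).2 ?_
  rintro _ ⟨y, hy, rfl⟩
  exact Y.mul_mem (Y.inv_mem hy) (hY y hy)

theorem commSub_mono {Y Z : Subgroup L} (h : Y ≤ Z) : commSub α Y ≤ commSub α Z := by
  apply Subgroup.closure_mono
  rintro _ ⟨y, hy, rfl⟩
  exact ⟨y, h hy, rfl⟩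

theorem commSub_le_of {Y K : Subgroup L} (h : ∀ y ∈ Y, y⁻¹ * α y ∈ K) : commSub α Y ≤ K := by
  refine (closure_le K).2 ?_
  rintro _ ⟨y, hy, rfl⟩
  exact h y hy

theorem inv_commSub {Y : Subgroup L} (hY : Inv' α Y) : Inv' α (commSub α Y) := by
  intro z hz
  induction hz using closure_induction with
  | mem z hz =>
    obtain ⟨y, hy, rfl⟩ := hz
    rw [map_mul, map_inv]
    exact commSub_mem (hY y hy)
  | one => rw [map_one]; exact one_mem _
  | mul _ _ _ _ h1 h2 => rw [map_mul]; exact mul_mem h1 h2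
  | inv _ _ h1 => rw [map_inv]; exact inv_mem h1

theorem norms_commSub_self {Y : Subgroup L} {z : L} (hz : z ∈ Y) : Norms z (commSub α Y) := by
  intro x hx
  induction hx using closure_induction with
  | mem x hx =>
    obtain ⟨y, hy, rfl⟩ := hx
    have : z * (y⁻¹ * α y) * z⁻¹
        = ((y * z⁻¹)⁻¹ * α (y * z⁻¹)) * (z⁻¹⁻¹ * α z⁻¹)⁻¹ := by
      rw [map_mul, map_inv]; group
    rw [this]
    exact mul_mem (commSub_mem (Y.mul_mem hy (Y.inv_mem hz)))
      (inv_mem (commSub_mem (Y.inv_mem hz)))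
  | one => rw [mul_one, mul_inv_cancel]; exact one_mem _
  | mul a b _ _ h1 h2 =>
    rw [show z * (a * b) * z⁻¹ = (z * a * z⁻¹) * (z * b * z⁻¹) by group]
    exact mul_mem h1 h2
  | inv a _ h1 =>
    rw [show z * a⁻¹ * z⁻¹ = (z * a * z⁻¹)⁻¹ by group]
    exact inv_mem h1

theorem norms_commSub {Y : Subgroup L} {z : L} (hzF : α z = z) (hz : Norms z Y) :
    Norms z (commSub α Y) := by
  intro x hx
  induction hx using closure_induction with
  | mem x hx =>
    obtain ⟨y, hy, rfl⟩ := hx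
    have : z * (y⁻¹ * α y) * z⁻¹ = (z * y * z⁻¹)⁻¹ * α (z * y * z⁻¹) := by
      rw [map_mul, map_mul, map_inv, hzF]; group
    rw [this]
    exact commSub_mem (hz y hy)
  | one => rw [mul_one, mul_inv_cancel]; exact one_mem _
  | mul a b _ _ h1 h2 =>
    rw [show z * (a * b) * z⁻¹ = (z * a * z⁻¹) * (z * b * z⁻¹) by group]
    exact mul_mem h1 h2
  | inv a _ h1 =>
    rw [show z * a⁻¹ * z⁻¹ = (z * a * z⁻¹)⁻¹ by group]
    exact inv_mem h1

theorem inv_cent {a : L} (ha : α a = a) : Inv' α (centralizer ({a} : Set L)) := by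
  intro y hy
  rw [mem_cent] at *
  have := hy.map α.toMonoidHom
  simpa [ha] using this

theorem norms_cent {a z : L} (h : Commute z a) : Norms z (centralizer ({a} : Set L)) := by
  intro y hy
  rw [mem_cent] at *
  exact (h.mul_left hy).mul_left h.inv_left

theorem pow_invariant {Y : Subgroup L} (hY : Inv' α Y) (k : ℕ) : ∀ y ∈ Y, (α ^ k) y ∈ Y := by
  induction k with
  | zero => intro y hy; simpa using hy
  | succ k ih =>
    intro y hy
    rw [pow_succ, MulAut.mul_apply]
    exact ih _ (hY y hy)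

theorem pow_comm_mem {Y : Subgroup L} (hY : Inv' α Y) {x : L} (hx : x⁻¹ * α x ∈ Y) (k : ℕ) :
    x⁻¹ * (α ^ k) x ∈ Y := by
  induction k with
  | zero => simp
  | succ k ih =>
    rw [pow_succ', MulAut.mul_apply]
    have : x⁻¹ * α ((α ^ k) x) = (x⁻¹ * α x) * α (x⁻¹ * (α ^ k) x) := by
      rw [map_mul, map_inv]; group
    rw [this]
    exact Y.mul_mem hx (hY _ ih)

theorem finite_mulAut [Finite L] : Finite (MulAut L) :=
  Finite.of_injective (fun e : MulAut L => e.toEquiv) fun a b h => MulEquiv.toEquiv_injective h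

theorem exists_pow_of_mem_zpowers [Finite L] {a : MulAut L} (h : a ∈ zpowers α) :
    ∃ k : ℕ, α ^ k = a := by
  haveI := finite_mulAut (L := L)
  obtain ⟨k, hk⟩ := mem_powers_iff_mem_zpowers.2 h
  exact ⟨k, hk⟩

/-- A fixed coset of an invariant subgroup has a fixed element. -/
theorem exists_mul_fixed [Finite L] (hcop : (orderOf α).Coprime (Nat.card L)) {Y : Subgroup L}
    (hY : Inv' α Y) {x : L} (hx : x⁻¹ * α x ∈ Y) : ∃ y ∈ Y, α (x * y) = x * y := by
  haveI := finite_mulAut (L := L)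
  obtain ⟨y, hy, h⟩ := Coprime.Action.exists_mul_fixed (A := zpowers α) (G := L) (N := Y)
    (g := x)
    (fun a z hz => by
      obtain ⟨k, hk⟩ := exists_pow_of_mem_zpowers a.2
      show (a : MulAut L) z ∈ Y
      rw [← hk]; exact pow_invariant hY k z hz)
    (by rw [Nat.card_zpowers]; exact hcop.coprime_dvd_right (card_subgroup_dvd_card _))
    (Or.inl (Coprime.isSolvable_zpowers α))
    (fun a => by
      obtain ⟨k, hk⟩ := exists_pow_of_mem_zpowers a.2
      show x⁻¹ * (a : MulAut L) x ∈ Y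
      rw [← hk]; exact pow_comm_mem hY hx k)
  exact ⟨y, hy, h ⟨α, mem_zpowers α⟩⟩

/-- `Y = (Y ∩ F)[Y, α]`. -/
theorem exists_fixed_mul [Finite L] (hcop : (orderOf α).Coprime (Nat.card L)) {Y : Subgroup L}
    (hY : Inv' α Y) {y : L} (hy : y ∈ Y) :
    ∃ f k, f ∈ Y ∧ α f = f ∧ k ∈ commSub α Y ∧ y = f * k := by
  obtain ⟨n, hn, hfix⟩ := exists_mul_fixed hcop (inv_commSub hY) (commSub_mem hy)
  exact ⟨y * n, n⁻¹, Y.mul_mem hy (commSub_le hY hn), hfix, inv_mem hn, by group⟩

/-- `[[Y, α], α] = [Y, α]`. -/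
theorem commSub_commSub [Finite L] (hcop : (orderOf α).Coprime (Nat.card L)) {Y : Subgroup L}
    (hY : Inv' α Y) : commSub α (commSub α Y) = commSub α Y := by
  refine le_antisymm (commSub_mono (commSub_le hY)) (commSub_le_of fun y hy => ?_)
  obtain ⟨f, k, -, hf, hk, rfl⟩ := exists_fixed_mul hcop hY hy
  rw [show (f * k)⁻¹ * α (f * k) = k⁻¹ * α k by rw [map_mul, hf]; group]
  exact commSub_mem hk

/-- An element of an invariant subgroup is fixed if its commutator with `α` is. -/
theorem fixed_of_comm_fixed [Finite L] (hcop : (orderOf α).Coprime (Nat.card L)) {x : L}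
    (hx : α (x⁻¹ * α x) = x⁻¹ * α x) : α x = x := by
  obtain ⟨y, hy, h⟩ := exists_mul_fixed hcop (Y := fixedSub α)
    (fun y hy => by rw [mem_fixedSub] at *; rw [hy, hy]) (x := x) hx
  rw [map_mul, mem_fixedSub.1 hy] at h
  exact mul_right_cancel h

theorem Good.fixed {g : L} (hg : Good α g) : α g = g := hg.2 g (Commute.refl g)

theorem Good.conj_fixed {g x : L} (hg : Good α g) (hx : α x = x) :
    Good α (x * g * x⁻¹) := by
  refine ⟨(orderOf_conj_eq x g).trans hg.1, fun y hy => ?_⟩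
  have h1 : Commute (x⁻¹ * y * x) g := by
    show x⁻¹ * y * x * g = g * (x⁻¹ * y * x)
    calc x⁻¹ * y * x * g = x⁻¹ * (y * (x * g * x⁻¹)) * x := by group
      _ = x⁻¹ * (x * g * x⁻¹ * y) * x := by rw [hy.eq]
      _ = g * (x⁻¹ * y * x) := by group
  have h2 := hg.2 _ h1
  rw [map_mul, map_mul, map_inv, hx] at h2
  exact mul_left_cancel (mul_right_cancel h2)

/-- A conjugator sending a good involution into the fixed subgroup is fixed. -/
theorem Good.mem_of_conj [Finite L] (hcop : (orderOf α).Coprime (Nat.card L)) {g x : L}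
    (hg : Good α g) (h : α (x * g * x⁻¹) = x * g * x⁻¹) : α x = x := by
  refine fixed_of_comm_fixed hcop (hg.2 _ ?_)
  rw [map_mul, map_mul, map_inv, hg.fixed] at h
  show x⁻¹ * α x * g = g * (x⁻¹ * α x)
  calc x⁻¹ * α x * g = x⁻¹ * (α x * g * (α x)⁻¹) * α x := by group
    _ = x⁻¹ * (x * g * x⁻¹) * α x := by rw [h]
    _ = g * (x⁻¹ * α x) := by group

theorem Good.of_conj [Finite L] (hcop : (orderOf α).Coprime (Nat.card L)) {g e x : L}
    (hg : Good α g) (he : α e = e) (h : x * g * x⁻¹ = e) : Good α e :=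
  h ▸ hg.conj_fixed (hg.mem_of_conj hcop (h.symm ▸ he))

theorem good_of_isConj [Finite L] (hcop : (orderOf α).Coprime (Nat.card L)) {g e : L}
    (hg : Good α g) (he : α e = e) (h : IsConj g e) : Good α e := by
  obtain ⟨x, hx⟩ := isConj_iff.1 h
  exact hg.of_conj hcop he hx

/-- A `2`-subgroup containing a good involution is fixed elementwise. -/
theorem le_fixedSub_of_good [Finite L] (hcop : (orderOf α).Coprime (Nat.card L)) {S : Subgroup L}
    (hS : IsPGroup 2 S) {g : L} (hgS : g ∈ S) (hg : Good α g) : S ≤ fixedSub α := by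
  haveI : Fact (Nat.Prime 2) := ⟨Nat.prime_two⟩
  haveI := hS.isNilpotent
  by_contra hle
  have hne : (fixedSub α).subgroupOf S ≠ ⊤ := fun h => hle (subgroupOf_eq_top.1 h)
  obtain ⟨t, htn, htH⟩ := SetLike.exists_of_lt
    (Group.normalizerCondition_of_isNilpotent _ hne.lt_top)
  refine htH ?_
  have := (mem_normalizer_iff.1 htn ⟨g, hgS⟩).1 (mem_subgroupOf.2 hg.fixed)
  exact mem_subgroupOf.2 (hg.mem_of_conj hcop (mem_subgroupOf.1 this))

/-- Two involutions with product of odd order, exchanged by a power of the product. -/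
theorem conj_half {a b : L} (ha : a * a = 1) (hb : b * b = 1) {l : ℕ}
    (hl : (a * b) ^ (2 * l + 1) = 1) : (a * b) ^ l * a * ((a * b) ^ l)⁻¹ = b := by
  have hs := UniquePointInvolution.invol_semiconj ha hb
  have h1 : a * ((a * b) ^ l)⁻¹ = (a * b) ^ l * a := by
    rw [eq_comm, eq_mul_inv_iff_mul_eq, mul_assoc, hs l, mul_inv_cancel_left]
  have h2 : (a * b) ^ (l + l) = (a * b)⁻¹ := eq_inv_of_mul_eq_one_left
    (by rw [← pow_succ, ← two_mul]; exact hl)
  calc (a * b) ^ l * a * ((a * b) ^ l)⁻¹ = (a * b) ^ l * (a * ((a * b) ^ l)⁻¹) := mul_assoc _ _ _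
    _ = (a * b) ^ (l + l) * a := by rw [h1, ← mul_assoc, pow_add]
    _ = b := by
      rw [h2, mul_inv_rev, inv_eq_of_mul_eq_one_right ha, inv_eq_of_mul_eq_one_right hb,
        mul_assoc, ha, mul_one]

theorem odd_orderOf_of_mem [Finite L] {K : Subgroup L} (hK : Odd (Nat.card K)) {x : L}
    (hx : x ∈ K) : Odd (orderOf x) := by
  refine hK.of_dvd_nat ?_
  have := orderOf_dvd_natCard (⟨x, hx⟩ : K)
  rwa [Subgroup.orderOf_mk] at this

/-- An involution of `Y` is moved into the fixed subgroup by an element of `[Y, α]`. -/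
theorem exists_conj_fixed [Finite L] (hcop : (orderOf α).Coprime (Nat.card L)) {Y : Subgroup L}
    (hY : Inv' α Y) (hodd : Odd (Nat.card (commSub α Y))) {f : L} (hf : f ∈ Y) (hf2 : f * f = 1) :
    ∃ k ∈ commSub α Y, α (k * f * k⁻¹) = k * f * k⁻¹ := by
  obtain ⟨n, hn, hfix⟩ := exists_mul_fixed hcop (inv_commSub hY) (commSub_mem hf)
  have hfi : f⁻¹ = f := inv_eq_of_mul_eq_one_right hf2
  have hsq : (f * n) ^ 2 ∈ commSub α Y := by
    have e : (f * n) ^ 2 = (f * n * f⁻¹) * n := by rw [hfi, pow_two]; group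
    rw [e]
    exact mul_mem (norms_commSub_self hf n hn) hn
  obtain ⟨m, hm⟩ := odd_orderOf_of_mem hodd hsq
  set c := (f * n) ^ (2 * m + 1) with hc
  have hc2 : c * c = 1 := by
    rw [hc, ← pow_add, ← two_mul, pow_mul, ← hm, pow_orderOf_eq_one]
  have hfc : f * c ∈ commSub α Y := by
    have e : f * c = n * ((f * n) ^ 2) ^ m := by
      rw [hc, ← pow_mul, pow_succ', ← mul_assoc, ← mul_assoc f f, hf2, one_mul]
    rw [e]
    exact mul_mem hn (pow_mem hsq m)
  obtain ⟨l, hl⟩ := odd_orderOf_of_mem hodd hfc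
  refine ⟨(f * c) ^ l, pow_mem hfc l, ?_⟩
  rw [conj_half hf2 hc2 (hl ▸ pow_orderOf_eq_one (f * c)), hc, map_pow, hfix]

/-- The restriction of `α` to an invariant subgroup. -/
noncomputable def res [Finite L] {Y : Subgroup L} (hY : Inv' α Y) : MulAut Y :=
  MulEquiv.ofBijective ((α.toMonoidHom.comp Y.subtype).codRestrict Y (fun y => hY _ y.2))
    (Finite.injective_iff_bijective.1 fun _ _ h =>
      Subtype.ext (α.injective (congrArg Subtype.val h)))

theorem coe_res [Finite L] {Y : Subgroup L} (hY : Inv' α Y) (y : Y) :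
    ((res hY y : Y) : L) = α y := rfl

theorem coe_res_pow [Finite L] {Y : Subgroup L} (hY : Inv' α Y) (k : ℕ) (y : Y) :
    (((res hY ^ k) y : Y) : L) = (α ^ k) y := by
  induction k generalizing y with
  | zero => simp
  | succ k ih => rw [pow_succ, pow_succ, MulAut.mul_apply, MulAut.mul_apply, ih, coe_res]

theorem orderOf_res_dvd [Finite L] {Y : Subgroup L} (hY : Inv' α Y) :
    orderOf (res hY) ∣ orderOf α := by
  refine orderOf_dvd_of_pow_eq_one (MulEquiv.ext fun y => Subtype.ext ?_)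
  rw [coe_res_pow, pow_orderOf_eq_one]
  rfl

theorem coprime_res [Finite L] (hcop : (orderOf α).Coprime (Nat.card L)) {Y : Subgroup L}
    (hY : Inv' α Y) : (orderOf (res hY)).Coprime (Nat.card Y) :=
  (hcop.coprime_dvd_left (orderOf_res_dvd hY)).coprime_dvd_right (card_subgroup_dvd_card Y)

theorem map_commSub_res [Finite L] {Y : Subgroup L} (hY : Inv' α Y) :
    (commSub (res hY) ⊤).map Y.subtype = commSub α Y := by
  rw [commSub, MonoidHom.map_closure, commSub]
  congr 1
  ext z
  constructor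
  · rintro ⟨_, ⟨y, -, rfl⟩, rfl⟩
    exact ⟨y, y.2, rfl⟩
  · rintro ⟨y, hy, rfl⟩
    exact ⟨_, ⟨⟨y, hy⟩, mem_top _, rfl⟩, rfl⟩

/-- The automorphism induced on a quotient by an invariant normal subgroup. -/
noncomputable def quot [Finite L] {N : Subgroup L} [N.Normal] (hN : Inv' α N) :
    MulAut (L ⧸ N) :=
  MulEquiv.ofBijective (QuotientGroup.map N N α.toMonoidHom fun x hx => hN x hx)
    (Finite.surjective_iff_bijective.1 fun x => by
      induction x using QuotientGroup.induction_on with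
      | _ x => exact ⟨↑(α.symm x), by simp⟩)

theorem quot_mk [Finite L] {N : Subgroup L} [N.Normal] (hN : Inv' α N) (x : L) :
    quot hN (x : L ⧸ N) = ↑(α x) := rfl

theorem quot_pow_mk [Finite L] {N : Subgroup L} [N.Normal] (hN : Inv' α N) (k : ℕ) (x : L) :
    (quot hN ^ k) (x : L ⧸ N) = ↑((α ^ k) x) := by
  induction k generalizing x with
  | zero => simp
  | succ k ih => rw [pow_succ, pow_succ, MulAut.mul_apply, MulAut.mul_apply, quot_mk, ih]

theorem coprime_quot [Finite L] (hcop : (orderOf α).Coprime (Nat.card L)) {N : Subgroup L}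
    [N.Normal] (hN : Inv' α N) : (orderOf (quot hN)).Coprime (Nat.card (L ⧸ N)) := by
  have h1 : orderOf (quot hN) ∣ orderOf α := by
    refine orderOf_dvd_of_pow_eq_one (MulEquiv.ext fun y => ?_)
    induction y using QuotientGroup.induction_on with
    | _ y => rw [quot_pow_mk, pow_orderOf_eq_one]; rfl
  exact (hcop.coprime_dvd_left h1).coprime_dvd_right (card_quotient_dvd_card N)

theorem map_commSub_quot [Finite L] {N : Subgroup L} [N.Normal] (hN : Inv' α N) :
    (commSub α ⊤).map (QuotientGroup.mk' N) = commSub (quot hN) ⊤ := by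
  rw [commSub, MonoidHom.map_closure, commSub]
  congr 1
  ext z
  constructor
  · rintro ⟨_, ⟨y, -, rfl⟩, rfl⟩
    exact ⟨y, mem_top _, rfl⟩
  · rintro ⟨y, -, rfl⟩
    induction y using QuotientGroup.induction_on with
    | _ y => exact ⟨_, ⟨y, mem_top _, rfl⟩, rfl⟩

/-- An invariant Sylow subgroup of an invariant subgroup. -/
theorem exists_invariant_sylow [Finite L] (hcop : (orderOf α).Coprime (Nat.card L))
    (p : ℕ) [Fact p.Prime] :
    ∃ S : Sylow p L, Inv' α (S : Subgroup L) := by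
  haveI := finite_mulAut (L := L)
  obtain ⟨S, hS⟩ := Coprime.Action.exists_invariant_sylow (A := zpowers α) (G := L)
    (by rw [Nat.card_zpowers]; exact hcop) (Or.inl (Coprime.isSolvable_zpowers α)) p
  exact ⟨S, fun y hy => hS ⟨α, mem_zpowers α⟩ y hy⟩

end Cfsg.Agent.Lib.CoprimeInvol
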