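import Cfsg.Agent.Lib.CoprimeInvol.Basic
import Cfsg.Agent.Lib.OddOrder.FeitThompson
import Cfsg.Agent.Lib.PGroups.Frattini

/-!
# Centralising `[Q, α]` for invariant subgroups `Q` of odd order

Owner: helper11.
-/

set_option autoImplicit false
set_option linter.unusedSectionVars false
set_option linter.style.haveILetI false

namespace Cfsg.Agent.Lib.CoprimeInvol

open Subgroup
open Cfsg.Agent.Lib.Involutions.Basic

variable {L : Type*} [Group L] {α : MulAut L}

theorem odd_card_of_le [Finite L] {K Q : Subgroup L} (hQ : Odd (Nat.card Q)) (h : K ≤ Q) :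
    Odd (Nat.card K) :=
  hQ.of_dvd_nat (card_dvd_of_le h)

theorem mem_of_sq_mem [Finite L] {Q K : Subgroup L} (hQ : Odd (Nat.card Q)) {x : L} (hx : x ∈ Q)
    (h : x * x ∈ K) : x ∈ K := by
  obtain ⟨l, hl⟩ := odd_orderOf_of_mem hQ hx
  have e : x = (x * x) ^ (l + 1) := by
    rw [← pow_two, ← pow_mul, show 2 * (l + 1) = orderOf x + 1 by omega, pow_succ,
      pow_orderOf_eq_one, one_mul]
  rw [e]
  exact pow_mem h _

theorem norms_closure {S : Set L} {z : L} (h : ∀ x ∈ S, z * x * z⁻¹ ∈ closure S) :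
    Norms z (closure S) := by
  intro x hx
  induction hx using closure_induction with
  | mem x hx => exact h x hx
  | one => rw [mul_one, mul_inv_cancel]; exact one_mem _
  | mul a b _ _ h1 h2 =>
    rw [show z * (a * b) * z⁻¹ = (z * a * z⁻¹) * (z * b * z⁻¹) by group]
    exact mul_mem h1 h2
  | inv a _ h1 =>
    rw [show z * a⁻¹ * z⁻¹ = (z * a * z⁻¹)⁻¹ by group]
    exact inv_mem h1

theorem norms_self {Q : Subgroup L} {q : L} (hq : q ∈ Q) : Norms q Q :=
  fun y hy => Q.mul_mem (Q.mul_mem hq hy) (Q.inv_mem hq)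

theorem inv_comm {Q : Subgroup L} (hQ : Inv' α Q) : Inv' α ⁅Q, Q⁆ := by
  intro y hy
  have h : Q.map α.toMonoidHom ≤ Q := map_le_iff_le_comap.2 fun x hx => hQ x hx
  have := mem_map_of_mem α.toMonoidHom hy
  rw [map_commutator] at this
  exact commutator_mono h h this

theorem norms_comm {Q : Subgroup L} {z : L} (hz : Norms z Q) : Norms z ⁅Q, Q⁆ :=
  inv_comm (α := MulAut.conj z) hz

theorem inv_sup {A B : Subgroup L} (hA : Inv' α A) (hB : Inv' α B) : Inv' α (A ⊔ B) := by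
  have h : A ⊔ B ≤ (A ⊔ B).comap α.toMonoidHom :=
    sup_le (fun x hx => le_sup_left (α := Subgroup L) (hA x hx))
      (fun x hx => le_sup_right (α := Subgroup L) (hB x hx))
  exact fun y hy => h hy

theorem inv_inf {A B : Subgroup L} (hA : Inv' α A) (hB : Inv' α B) : Inv' α (A ⊓ B) :=
  fun y hy => ⟨hA y hy.1, hB y hy.2⟩

theorem comm_lt [Finite L] {Q : Subgroup L} (hodd : Odd (Nat.card Q)) (hne : Q ≠ ⊥) :
    ⁅Q, Q⁆ < Q := by
  haveI := OddOrder.FeitThompson.isSolvable_of_odd_card (G := Q) hodd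
  haveI := (nontrivial_iff_ne_bot Q).2 hne
  refine lt_of_le_of_ne (commutator_le_self Q) fun h => ?_
  refine (Group.IsSolvable.commutator_lt_top_of_nontrivial (G := Q)).ne
    (map_injective Q.subtype_injective ?_)
  rw [map_subtype_commutator, h, ← MonoidHom.range_eq_map, range_subtype]

/-- Fixed elements of `Q = [Q, α]` lie in the derived subgroup. -/
theorem fixed_mem_comm [Finite L] (hcop : (orderOf α).Coprime (Nat.card L)) {Q : Subgroup L}
    (hQ : Inv' α Q) (hQQ : commSub α Q = Q) {f : L} (hf : f ∈ Q) (hfix : α f = f) :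
    f ∈ ⁅Q, Q⁆ := by
  set β := res hQ with hβ
  set n := orderOf β with hn
  let φ : Q → Abelianization Q := fun q =>
    ∏ k ∈ Finset.range n, Abelianization.of ((β ^ k) q)
  have hmul : ∀ a b, φ (a * b) = φ a * φ b := fun a b => by
    simp only [φ, map_mul, Finset.prod_mul_distrib]
  let ψ : Q →* Abelianization Q := MonoidHom.mk' φ hmul
  have hshift : ∀ q, ψ (β q) = ψ q := by
    intro q
    have e1 : φ (β q) * Abelianization.of q
        = ∏ k ∈ Finset.range (n + 1), Abelianization.of ((β ^ k) q) := by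
      rw [Finset.prod_range_succ']
      simp only [φ, pow_succ, MulAut.mul_apply, pow_zero, MulAut.one_apply]
    have e2 : φ q * Abelianization.of q
        = ∏ k ∈ Finset.range (n + 1), Abelianization.of ((β ^ k) q) := by
      rw [Finset.prod_range_succ, hn, pow_orderOf_eq_one, MulAut.one_apply]
    exact mul_right_cancel (e1.trans e2.symm)
  have hle : commSub α Q ≤ ψ.ker.map Q.subtype := by
    refine commSub_le_of fun y hy => ⟨(⟨y, hy⟩ : Q)⁻¹ * β ⟨y, hy⟩, ?_, rfl⟩
    rw [SetLike.mem_coe, MonoidHom.mem_ker, map_mul, hshift, map_inv, inv_mul_cancel]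
  obtain ⟨g, hgk, hgf⟩ := hle (hQQ.symm ▸ hf)
  have hpow : ∀ k : ℕ, (β ^ k) g = g := fun k => by
    induction k with
    | zero => simp
    | succ k ih =>
      rw [pow_succ, MulAut.mul_apply, show β g = g from Subtype.ext ?_, ih]
      rw [hβ, coe_res, show (g : L) = f from hgf, hfix]
  have h1 : (Abelianization.of g) ^ n = 1 := by
    have := MonoidHom.mem_ker.1 hgk
    simpa only [ψ, MonoidHom.mk'_apply, φ, hpow, Finset.prod_const, Finset.card_range] using this
  have h2 : (Abelianization.of g) ^ Nat.card Q = 1 := by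
    rw [← map_pow, pow_card_eq_one', map_one]
  have h3 : Abelianization.of g = 1 := by
    rw [← pow_one (Abelianization.of g), ← (coprime_res hcop hQ).gcd_eq_one]
    exact pow_gcd_eq_one.2 ⟨h1, h2⟩
  have h4 : g ∈ commutator Q := (QuotientGroup.eq_one_iff g).1 h3
  rw [← map_subtype_commutator, ← hgf]
  exact mem_map_of_mem _ h4

/-- `q = c v` with `c` centralised and `v` inverted by the involution `u`. -/
theorem exists_decomp [Finite L] {u : L} (hu2 : u * u = 1) {Q : Subgroup L}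
    (hodd : Odd (Nat.card Q)) (huQ : Norms u Q) {q : L} (hq : q ∈ Q) :
    ∃ c v, c ∈ Q ∧ v ∈ Q ∧ q = c * v ∧ Commute u c ∧ u * v * u⁻¹ = v⁻¹ ∧
      ∀ K : Subgroup L, (u * q * u⁻¹)⁻¹ * q ∈ K → v ∈ K := by
  have hui : u⁻¹ = u := inv_eq_of_mul_eq_one_right hu2
  set w := (u * q * u⁻¹)⁻¹ * q with hw
  have hwQ : w ∈ Q := Q.mul_mem (Q.inv_mem (huQ q hq)) hq
  obtain ⟨l, hl⟩ := odd_orderOf_of_mem hodd hwQ
  set v := w ^ (l + 1) with hv
  have hvv : v * v = w := by
    rw [hv, ← pow_add, show l + 1 + (l + 1) = orderOf w + 1 by omega, pow_succ,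
      pow_orderOf_eq_one, one_mul]
  have hiter : u * (u * q * u⁻¹) * u⁻¹ = q := by
    rw [hui]; simp only [← mul_assoc, hu2, one_mul]; rw [mul_assoc, hu2, mul_one]
  have huw : u * w * u⁻¹ = w⁻¹ := by
    have key : ∀ a b : L, u * (a⁻¹ * b) * u⁻¹ = (u * a * u⁻¹)⁻¹ * (u * b * u⁻¹) :=
      fun a b => by group
    rw [hw, key, hiter]
    group
  have huv : u * v * u⁻¹ = v⁻¹ := by rw [hv, ← conj_pow, huw, inv_pow]
  refine ⟨q * v⁻¹, v, Q.mul_mem hq (Q.inv_mem (pow_mem hwQ _)), pow_mem hwQ _, by group, ?_, huv,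
    fun K hK => pow_mem hK _⟩
  have huc : u * (q * v⁻¹) * u⁻¹ = q * v⁻¹ := by
    calc u * (q * v⁻¹) * u⁻¹ = (u * q * u⁻¹) * (u * v * u⁻¹)⁻¹ := by group
      _ = q * (((u * q * u⁻¹)⁻¹ * q))⁻¹ * v := by rw [huv, inv_inv]; group
      _ = q * v⁻¹ := by rw [← hw, ← hvv]; group
  exact (mul_inv_eq_iff_eq_mul.1 huc)

/-- The step: an involution trivial on `Q / Q'` centralises `Q = [Q, α]`. -/
theorem cent_step [Finite L] (hcop : (orderOf α).Coprime (Nat.card L)) {u : L} (hu : α u = u)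
    (hu2 : u * u = 1) {Q : Subgroup L} (hQ : Inv' α Q) (hodd : Odd (Nat.card Q))
    (huQ : Norms u Q) (hQQ : commSub α Q = Q)
    (hih : ∀ z ∈ commSub α ⁅Q, Q⁆, Commute u z)
    (htriv : ∀ q ∈ Q, q⁻¹ * (u * q * u⁻¹) ∈ ⁅Q, Q⁆) : ∀ x ∈ Q, Commute u x := by
  set Q' := ⁅Q, Q⁆ with hQ'
  have hQ'Q : Q' ≤ Q := commutator_le_self Q
  have hQ'inv : Inv' α Q' := inv_comm hQ
  set S : Set L := {m | ∃ q ∈ Q, ∃ z ∈ commSub α Q', m = q * z * q⁻¹} with hS
  set M := closure S with hM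
  have hdec : ∀ q ∈ Q, ∃ c n, c ∈ Q ∧ Commute u c ∧ n ∈ Q' ∧ q = c * n := by
    intro q hq
    obtain ⟨c, v, hc, -, he, huc, -, hK⟩ := exists_decomp hu2 hodd huQ hq
    refine ⟨c, v, hc, huc, hK Q' ?_, he⟩
    have := Q'.inv_mem (htriv q hq)
    rwa [mul_inv_rev, inv_inv] at this
  have hMu : ∀ m ∈ M, Commute u m := by
    intro m hm
    induction hm using closure_induction with
    | mem m hm =>
      obtain ⟨q, hq, z, hz, rfl⟩ := hm
      obtain ⟨c, n, -, huc, hn, rfl⟩ := hdec q hq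
      have := hih _ (norms_commSub_self hn z hz)
      rw [show c * n * z * (c * n)⁻¹ = c * (n * z * n⁻¹) * c⁻¹ by group]
      exact (huc.mul_right this).mul_right huc.inv_right
    | one => exact Commute.one_right u
    | mul _ _ _ _ h1 h2 => exact h1.mul_right h2
    | inv _ _ h1 => exact h1.inv_right
  have hMnorm : ∀ t ∈ Q, Norms t M := by
    intro t ht
    refine norms_closure ?_
    rintro _ ⟨q, hq, z, hz, rfl⟩
    exact subset_closure ⟨t * q, Q.mul_mem ht hq, z, hz, by group⟩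
  have hKM : commSub α Q' ≤ M := fun z hz => subset_closure ⟨1, Q.one_mem, z, hz, by group⟩
  have hgen : ∀ f ∈ Q', α f = f → ∀ z ∈ Q, f⁻¹ * z * f * z⁻¹ ∈ M := by
    intro f hf hff z hz
    rw [← hQQ] at hz
    induction hz using closure_induction with
    | mem z hz =>
      obtain ⟨q, hq, rfl⟩ := hz
      have hmem : q * f⁻¹ * q⁻¹ ∈ Q' := norms_comm (norms_self hq) _ (Q'.inv_mem hf)
      have h1 := hKM (commSub_mem (α := α) (Q'.inv_mem hmem))
      rw [inv_inv, map_inv, map_mul, map_mul, map_inv, map_inv, hff] at h1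
      have h2 := hMnorm q⁻¹ (Q.inv_mem hq) _ h1
      rw [show q⁻¹ * (q * f⁻¹ * q⁻¹ * (α q * f⁻¹ * (α q)⁻¹)⁻¹) * q⁻¹⁻¹
        = f⁻¹ * (q⁻¹ * α q) * f * (q⁻¹ * α q)⁻¹ by group] at h2
      exact h2
    | one => rw [show f⁻¹ * 1 * f * 1⁻¹ = (1 : L) by group]; exact one_mem _
    | mul a b ha hb h1 h2 =>
      have ha' : a ∈ Q := hQQ ▸ ha
      rw [show f⁻¹ * (a * b) * f * (a * b)⁻¹
        = (f⁻¹ * a * f * a⁻¹) * (a * (f⁻¹ * b * f * b⁻¹) * a⁻¹) by group]
      exact mul_mem h1 (hMnorm a ha' _ h2)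
    | inv a ha h1 =>
      have ha' : a⁻¹ ∈ Q := Q.inv_mem (hQQ ▸ ha)
      rw [show f⁻¹ * a⁻¹ * f * a⁻¹⁻¹ = a⁻¹ * (f⁻¹ * a * f * a⁻¹)⁻¹ * a⁻¹⁻¹ by group]
      exact hMnorm _ ha' _ (inv_mem h1)
  have key : ∀ q ∈ Q, Commute u (q⁻¹ * α q) := by
    intro q hq
    obtain ⟨c, n, hc, huc, hn, rfl⟩ := hdec q hq
    obtain ⟨f, m, hf, hff, hm, rfl⟩ := exists_fixed_mul hcop hQ'inv hn
    have hum : Commute u m := hih m hm
    have huam : Commute u (α m) := hih _ (inv_commSub hQ'inv m hm)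
    have huac : Commute u (α c) := by
      have := huc.map α.toMonoidHom
      simpa [hu] using this
    have hz : c⁻¹ * α c ∈ Q := Q.mul_mem (Q.inv_mem hc) (hQ c hc)
    have h1 := hMu _ (hgen f hf hff _ hz)
    have huf : Commute u (f⁻¹ * (c⁻¹ * α c) * f) := by
      have := h1.mul_right (huc.inv_right.mul_right huac)
      rwa [inv_mul_cancel_right] at this
    rw [show (c * (f * m))⁻¹ * α (c * (f * m)) = m⁻¹ * (f⁻¹ * (c⁻¹ * α c) * f) * α m by
      rw [map_mul, map_mul, hff]; group]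
    exact (hum.inv_right.mul_right huf).mul_right huam
  intro x hx
  rw [← hQQ] at hx
  induction hx using closure_induction with
  | mem z hz => obtain ⟨q, hq, rfl⟩ := hz; exact key q hq
  | one => exact Commute.one_right u
  | mul _ _ _ _ h1 h2 => exact h1.mul_right h2
  | inv _ _ h1 => exact h1.inv_right

/-- Induction over invariant subgroups of odd order normalised by the elements of `Z`. -/
theorem cent_induction [Finite L] (hcop : (orderOf α).Coprime (Nat.card L)) (Z : Set L)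
    (hZ : ∀ z ∈ Z, α z = z) {u : L} (hu : α u = u) (hu2 : u * u = 1)
    (huN : ∀ Q : Subgroup L, (∀ z ∈ Z, Norms z Q) → Norms u Q)
    (base : ∀ Q : Subgroup L, Inv' α Q → Odd (Nat.card Q) → (∀ z ∈ Z, Norms z Q) →
      commSub α Q = Q →
      (∀ K, K < Q → Inv' α K → (∀ z ∈ Z, Norms z K) → ∀ x ∈ commSub α K, Commute u x) →
      ∀ q ∈ Q, q⁻¹ * (u * q * u⁻¹) ∈ ⁅Q, Q⁆) :
    ∀ Q : Subgroup L, Inv' α Q → Odd (Nat.card Q) → (∀ z ∈ Z, Norms z Q) →
      ∀ x ∈ commSub α Q, Commute u x := by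
  intro Q
  induction Q using WellFoundedLT.induction with
  | _ Q ih =>
    intro hQ hodd hN x hx
    by_cases hQQ : commSub α Q = Q
    · rw [hQQ] at hx
      rcases eq_or_ne Q ⊥ with rfl | hne
      · rw [mem_bot.1 hx]; exact Commute.one_right u
      have hlt := comm_lt hodd hne
      refine cent_step hcop hu hu2 hQ hodd (huN Q hN) hQQ
        (ih _ hlt (inv_comm hQ) (odd_card_of_le hodd hlt.le) fun z hz => norms_comm (hN z hz))
        (base Q hQ hodd hN hQQ fun K hK hKi hKn =>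
          ih K hK hKi (odd_card_of_le hodd hK.le) hKn) x hx
    · have hlt : commSub α Q < Q := lt_of_le_of_ne (commSub_le hQ) hQQ
      rw [← commSub_commSub hcop hQ] at hx
      exact ih _ hlt (inv_commSub hQ) (odd_card_of_le hodd hlt.le)
        (fun z hz => norms_commSub (hZ z hz) (hN z hz)) x hx

/-- A good involution inverts `Q / Q'` for `Q = [Q, α]`. -/
theorem inverts_of_good [Finite L] (hcop : (orderOf α).Coprime (Nat.card L)) {g : L}
    (hg : Good α g) {Q : Subgroup L} (hQ : Inv' α Q) (hodd : Odd (Nat.card Q))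
    (hgQ : Norms g Q) (hQQ : commSub α Q = Q) {q : L} (hq : q ∈ Q) :
    q * (g * q * g⁻¹) ∈ ⁅Q, Q⁆ := by
  obtain ⟨c, v, hc, hv, rfl, hgc, hgv, -⟩ :=
    exists_decomp (invol_mul_self hg.1) hodd hgQ hq
  have hcQ : c ∈ ⁅Q, Q⁆ := fixed_mem_comm hcop hQ hQQ hc (hg.2 c hgc.symm)
  have e : c * v * (g * (c * v) * g⁻¹) = c * (v * c * v⁻¹) := by
    rw [show g * (c * v) * g⁻¹ = (g * c * g⁻¹) * (g * v * g⁻¹) by group, hgv,
      mul_inv_eq_iff_eq_mul.2 hgc.eq]
    group
  rw [e]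
  exact mul_mem hcQ (norms_comm (norms_self hv) c hcQ)

/-- The product of two commuting good involutions centralises `[Q, α]`. -/
theorem pair_centralises [Finite L] (hcop : (orderOf α).Coprime (Nat.card L)) {g h : L}
    (hg : Good α g) (hh : Good α h) (hgh : Commute g h) {Q : Subgroup L} (hQ : Inv' α Q)
    (hodd : Odd (Nat.card Q)) (hgQ : Norms g Q) (hhQ : Norms h Q) :
    ∀ x ∈ commSub α Q, Commute (g * h) x := by
  refine cent_induction hcop {g, h} ?_ ?_ ?_ ?_ ?_ Q hQ hodd ?_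
  · rintro z (rfl | rfl)
    · exact hg.fixed
    · exact hh.fixed
  · rw [map_mul, hg.fixed, hh.fixed]
  · rw [hgh.symm.mul_mul_mul_comm, invol_mul_self hg.1, invol_mul_self hh.1, one_mul]
  · intro P hP y hy
    rw [show g * h * y * (g * h)⁻¹ = g * (h * y * h⁻¹) * g⁻¹ by group]
    exact hP g (Or.inl rfl) _ (hP h (Or.inr rfl) y hy)
  · intro P hP hPodd hPn hPP _ q hq
    have h1 := inverts_of_good hcop hh hP hPodd (hPn h (Or.inr rfl)) hPP hq
    set a := h * q * h⁻¹ with ha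
    have haP : a ∈ P := hPn h (Or.inr rfl) q hq
    have h2 := inverts_of_good hcop hg hP hPodd (hPn g (Or.inl rfl)) hPP haP
    have h3 := norms_comm (norms_self (P.inv_mem hq)) _ h1
    have e : q⁻¹ * (g * h * q * (g * h)⁻¹)
        = (q⁻¹ * (q * a) * q⁻¹⁻¹)⁻¹ * (a * (g * a * g⁻¹)) := by rw [ha]; group
    rw [e]
    exact mul_mem (inv_mem h3) h2
  · rintro z (rfl | rfl)
    · exact hgQ
    · exact hhQ

/-- A Sylow subgroup of `Q` invariant under `α` and normalised by the involution `u`. -/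
theorem exists_normed_sylow [Finite L] (hcop : (orderOf α).Coprime (Nat.card L)) {u : L}
    (hu : α u = u) (hu' : orderOf u = 2) {Q : Subgroup L} (hQ : Inv' α Q)
    (hodd : Odd (Nat.card Q)) (huQ : Norms u Q) (p : ℕ) [Fact p.Prime] :
    ∃ S ≤ Q, Inv' α S ∧ Norms u S ∧ IsPGroup p S ∧
      Nat.card S = p ^ (Nat.card Q).factorization p := by
  have hu2 := invol_mul_self hu'
  set β := res hQ with hβ
  set γ := res (α := MulAut.conj u) (Y := Q) huQ with hγ
  have hcom : Commute β γ := MulEquiv.ext fun y => Subtype.ext (by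
    show α (u * (y : L) * u⁻¹) = u * α (y : L) * u⁻¹
    rw [map_mul, map_mul, map_inv, hu])
  have hγ2 : γ ^ 2 = 1 := MulEquiv.ext fun y => Subtype.ext (by
    rw [pow_two]
    show u * (u * (y : L) * u⁻¹) * u⁻¹ = y
    rw [invol_inv hu']; simp only [← mul_assoc, hu2, one_mul]; rw [mul_assoc, hu2, mul_one])
  have heven : Even (Nat.card L) := even_iff_two_dvd.2 (hu' ▸ orderOf_dvd_natCard u)
  have hno : Odd (orderOf β) := by
    rw [← Nat.not_even_iff_odd, even_iff_two_dvd]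
    intro h
    exact (Nat.prime_two.coprime_iff_not_dvd.1
      ((hcop.coprime_dvd_left (h.trans (orderOf_res_dvd hQ))).coprime_dvd_right dvd_rfl))
      heven.two_dvd
  obtain ⟨m, hm⟩ := hno
  set δ := β * γ with hδ
  have h1 : δ ^ orderOf β = γ := by
    rw [hδ, hcom.mul_pow, pow_orderOf_eq_one, one_mul, hm, pow_succ, pow_mul, hγ2, one_pow,
      one_mul]
  have h2 : δ ^ (orderOf β + 1) = β := by
    rw [pow_succ, h1, hδ, ← mul_assoc, ← hcom.eq, mul_assoc, ← pow_two, hγ2, mul_one]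
  have hcop' : (orderOf δ).Coprime (Nat.card Q) := by
    have : δ ^ (orderOf β * 2) = 1 := by rw [pow_mul, h1, hγ2]
    exact ((coprime_res hcop hQ).mul_left ((Nat.coprime_two_left).2 hodd)).coprime_dvd_left
      (orderOf_dvd_of_pow_eq_one this)
  obtain ⟨S, hS⟩ := exists_invariant_sylow (α := δ) hcop' p
  refine ⟨(S : Subgroup Q).map Q.subtype, map_subtype_le _, ?_, ?_, S.2.map _, ?_⟩
  · rintro _ ⟨y, hy, rfl⟩
    exact ⟨β y, h2 ▸ pow_invariant hS _ y hy, rfl⟩
  · rintro _ ⟨y, hy, rfl⟩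
    exact ⟨γ y, h1 ▸ pow_invariant hS _ y hy, rfl⟩
  · rw [card_subtype, S.card_eq_multiplicity]

/-- A bad involution of the fixed subgroup centralises `[Q, α]`, given this for the centralizers
of involutions commuting with it and with a good involution. -/
theorem bad_centralises [Finite L] (hcop : (orderOf α).Coprime (Nat.card L)) {u g : L}
    (hu : orderOf u = 2) (hfu : α u = u) (hbad : ¬ Good α u) (hg : Good α g)
    (Hu : ∀ i, orderOf i = 2 → Commute i g → Commute i u →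
      ∀ x ∈ commSub α (centralizer ({i} : Set L)), Commute u x)
    {Q : Subgroup L} (hQ : Inv' α Q) (hodd : Odd (Nat.card Q)) (huQ : Norms u Q) :
    ∀ x ∈ commSub α Q, Commute u x := by
  have hu2 := invol_mul_self hu
  refine cent_induction hcop {u} (fun z hz => hz ▸ hfu) hfu hu2 (fun P hP => hP u rfl) ?_ Q hQ
    hodd (fun z hz => hz ▸ huQ)
  clear hQ hodd huQ Q
  intro Q hQ hodd hN hQQ hih
  have huQ : Norms u Q := hN u rfl
  set Q' := ⁅Q, Q⁆ with hQ'
  by_contra hcon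
  push Not at hcon
  obtain ⟨q₀, hq₀, hq₀'⟩ := hcon
  obtain ⟨c₀, y, -, hy, rfl, huc₀, huy, -⟩ := exists_decomp hu2 hodd huQ hq₀
  have hyQ' : y ∉ Q' := by
    intro h
    apply hq₀'
    rw [show (c₀ * y)⁻¹ * (u * (c₀ * y) * u⁻¹)
      = y⁻¹ * (c₀⁻¹ * (u * c₀ * u⁻¹)) * (u * y * u⁻¹) by group,
      mul_inv_eq_iff_eq_mul.2 huc₀.eq, inv_mul_cancel, mul_one, huy]
    exact mul_mem (inv_mem h) (inv_mem h)
  have key : ∀ K, K < Q → Inv' α K → Norms u K → (∀ x ∈ K, x * (u * x * u⁻¹) ∈ Q') → K ≤ Q' := by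
    intro K hK hKi hKu hKI x hx
    obtain ⟨f, k, hf, hff, hk, rfl⟩ := exists_fixed_mul hcop hKi hx
    refine mul_mem (fixed_mem_comm hcop hQ hQQ (hK.le hf) hff) ?_
    have hkK : k ∈ K := commSub_le hKi hk
    have huk := hih K hK hKi (fun z hz => hz ▸ hKu) k hk
    have h := hKI k hkK
    rw [mul_inv_eq_iff_eq_mul.2 huk.eq] at h
    exact mem_of_sq_mem hodd (hK.le hkK) h
  let I : Subgroup L :=
    { carrier := {q | q ∈ Q ∧ q * (u * q * u⁻¹) ∈ Q'}
      one_mem' := ⟨Q.one_mem, by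
        rw [show (1 : L) * (u * 1 * u⁻¹) = 1 by group]; exact one_mem _⟩
      mul_mem' := by
        rintro a b ⟨ha, ha'⟩ ⟨hb, hb'⟩
        refine ⟨Q.mul_mem ha hb, ?_⟩
        have hc : (u * a * u⁻¹)⁻¹ * b * (u * a * u⁻¹) * b⁻¹ ∈ Q' := by
          have := commutator_mem_commutator (Q.inv_mem (huQ a ha)) hb
          rwa [commutatorElement_def, inv_inv] at this
        rw [show a * b * (u * (a * b) * u⁻¹) = (a * (u * a * u⁻¹))
          * ((u * a * u⁻¹)⁻¹ * b * (u * a * u⁻¹) * b⁻¹) * (b * (u * b * u⁻¹)) by group]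
        exact mul_mem (mul_mem ha' hc) hb'
      inv_mem' := by
        rintro a ⟨ha, ha'⟩
        refine ⟨Q.inv_mem ha, ?_⟩
        rw [show a⁻¹ * (u * a⁻¹ * u⁻¹) = (a⁻¹ * (a * (u * a * u⁻¹)) * a⁻¹⁻¹)⁻¹ by group]
        exact inv_mem (norms_comm (norms_self (Q.inv_mem ha)) _ ha') }
  have hIQ : I ≤ Q := fun q hq => hq.1
  have hyI : y ∈ I := ⟨hy, by rw [huy, mul_inv_cancel]; exact one_mem _⟩
  have hIeq : I = Q := by
    by_contra hne
    refine hyQ' (key I (lt_of_le_of_ne hIQ hne) ?_ ?_ (fun x hx => hx.2) hyI)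
    · rintro q ⟨hq, hq'⟩
      refine ⟨hQ q hq, ?_⟩
      have := inv_comm hQ _ hq'
      rwa [map_mul, map_mul, map_mul, map_inv, hfu] at this
    · rintro q ⟨hq, hq'⟩
      refine ⟨huQ q hq, ?_⟩
      have := norms_comm (norms_self (Q.inv_mem hq)) _ hq'
      rw [show u * (u * q * u⁻¹) * u⁻¹ = q by
        rw [invol_inv hu]; simp only [← mul_assoc, hu2, one_mul]; rw [mul_assoc, hu2, mul_one]]
      rwa [show q⁻¹ * (q * (u * q * u⁻¹)) * q⁻¹⁻¹ = u * q * u⁻¹ * q by group] at this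
  have hinv : ∀ q ∈ Q, q * (u * q * u⁻¹) ∈ Q' := fun q hq => (hIeq.symm ▸ hq : q ∈ I).2
  have hQ'Q : Q' ≤ Q := commutator_le_self Q
  have hnotle : ¬ Q ≤ Q' := fun h => hyQ' (h hy)
  obtain ⟨p, hp, hpQ⟩ : ∃ p : ℕ, p.Prime ∧ IsPGroup p Q := by
    by_contra hno
    push Not at hno
    refine hnotle ?_
    have hd : Nat.card Q ∣ Nat.card Q' := by
      rw [← Nat.factorization_le_iff_dvd Nat.card_pos.ne' Nat.card_pos.ne']
      intro p
      by_cases hp : p.Prime
      · haveI := Fact.mk hp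
        obtain ⟨S, hSQ, hSi, hSu, hSp, hScard⟩ := exists_normed_sylow hcop hfu hu hQ hodd huQ p
        have hne : S ≠ Q := fun h => hno p hp (h ▸ hSp)
        have hle := key S (lt_of_le_of_ne hSQ hne) hSi hSu (fun x hx => hinv x (hSQ hx))
        rw [← hp.pow_dvd_iff_le_factorization Nat.card_pos.ne', ← hScard]
        exact card_dvd_of_le hle
      · rw [Nat.factorization_eq_zero_of_not_prime _ hp]; exact Nat.zero_le _
    exact (eq_of_le_of_card_ge hQ'Q (Nat.le_of_dvd Nat.card_pos hd)).ge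
  haveI := Fact.mk hp
  obtain ⟨l, hl⟩ := odd_orderOf_of_mem hodd hy
  set z := y ^ (l + 1) with hz
  have hzz : z * z = y := by
    rw [hz, ← pow_add, show l + 1 + (l + 1) = orderOf y + 1 by omega, pow_succ,
      pow_orderOf_eq_one, one_mul]
  have huz : u * z * u⁻¹ = z⁻¹ := by rw [hz, ← conj_pow, huy, inv_pow]
  have hconj : z⁻¹ * u * z⁻¹⁻¹ = u * y := by
    calc z⁻¹ * u * z⁻¹⁻¹ = u * z * u⁻¹ * (u * z) := by rw [huz]; group
      _ = u * (z * z) := by group
      _ = u * y := by rw [hzz]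
  have hu'' : orderOf (u * y) = 2 := by rw [← hconj, orderOf_conj_eq, hu]
  have heven : Even (orderOf (u * y * g)) := by
    refine even_of_not_isConj hu'' hg.1 fun h => hbad (good_of_isConj hcop hg hfu ?_)
    exact h.symm.trans (isConj_iff.2 ⟨z⁻¹, hconj⟩).symm
  obtain ⟨hi, hiu, hig⟩ := central_invol hu'' hg.1 heven
  set i := (u * y * g) ^ (orderOf (u * y * g) / 2) with hi'
  have hfi : α i = i := hg.2 i hig
  have hU : Inv' α (commSub α (centralizer ({i} : Set L))) := inv_commSub (inv_cent hfi)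
  have hdiff : y⁻¹ * α y ∈ commSub α (centralizer ({i} : Set L)) := by
    have := commSub_mem (α := α) (mem_cent.2 hiu.symm)
    rwa [map_mul, hfu, mul_inv_rev, mul_assoc y⁻¹, inv_mul_cancel_left] at this
  set P := commSub α (centralizer ({i} : Set L)) ⊓ Q ⊔ Q' with hP
  have hPQ : P ≤ Q := sup_le inf_le_right hQ'Q
  have hPi : Inv' α P := inv_sup (inv_inf hU hQ) (inv_comm hQ)
  have hPu : Norms u P := by
    intro x hx
    rw [show u * x * u⁻¹ = x⁻¹ * (x * (u * x * u⁻¹)) by group]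
    exact P.mul_mem (P.inv_mem hx) (le_sup_right (α := Subgroup L) (hinv x (hPQ hx)))
  have hyP : y ∈ P := by
    obtain ⟨n, hn, hfix⟩ := exists_mul_fixed hcop hPi
      (le_sup_left (α := Subgroup L) (mem_inf.2 ⟨hdiff, Q.mul_mem (Q.inv_mem hy) (hQ y hy)⟩))
    have h := le_sup_right (α := Subgroup L) (a := commSub α (centralizer ({i} : Set L)) ⊓ Q)
      (fixed_mem_comm hcop hQ hQQ (Q.mul_mem hy (hPQ hn)) hfix)
    have := P.mul_mem h (P.inv_mem hn)
    rwa [mul_inv_cancel_right] at this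
  have hPeq : P = Q := by
    by_contra hne
    exact hyQ' (key P (lt_of_le_of_ne hPQ hne) hPi hPu (fun x hx => hinv x (hPQ hx)) hyP)
  have hyU : y ∈ commSub α (centralizer ({i} : Set L)) := by
    set H := (commSub α (centralizer ({i} : Set L)) ⊓ Q).subgroupOf Q with hH
    have htop : H ⊔ commutator Q = ⊤ := by
      refine map_injective Q.subtype_injective ?_
      rw [Subgroup.map_sup, hH, map_subgroupOf_eq_of_le inf_le_right, map_subtype_commutator, ← hQ', ← hP,
        hPeq, ← MonoidHom.range_eq_map, range_subtype]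
    have hHtop : H = ⊤ := frattini_nongenerating <| top_le_iff.1 <|
      htop.ge.trans (sup_le_sup_left (PGroups.commutator_le_frattini hpQ) _)
    exact ((subgroupOf_eq_top.1 hHtop) hy).1
  have hiy : Commute i y := (mem_cent.1 (commSub_le (inv_cent hfi) hyU)).symm
  have hiu' : Commute i u := by
    have := hiu.mul_right hiy.inv_right
    rwa [mul_inv_cancel_right] at this
  have huy' := Hu i hi hig hiu' y hyU
  rw [mul_inv_eq_iff_eq_mul.2 huy'.eq] at huy
  have : y * y = 1 := mul_eq_one_iff_eq_inv.2 huy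
  exact hyQ' (mem_of_sq_mem hodd hy (this ▸ one_mem _))

end Cfsg.Agent.Lib.CoprimeInvol
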