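import Cfsg.Agent.Lib.CoprimeInvol.Pairs

/-!
# There is no minimal counterexample

Owner: helper11.
-/

set_option autoImplicit false
set_option linter.unusedSectionVars false
set_option linter.style.haveILetI false

namespace Cfsg.Agent.Lib.CoprimeInvol

open Subgroup
open Cfsg.Agent.Lib.Involutions.Basic

universe u

variable {L : Type u} [Group L] {α : MulAut L} {d : L}

theorem MinCex.absurd_endgame [Finite L] (M : MinCex α d) : False := by
  haveI : Fact (Nat.Prime 2) := ⟨Nat.prime_two⟩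
  obtain ⟨T, h, hdT, hhT, hh, hhd, hdh⟩ := M.exists_pair
  have hTF : (T : Subgroup L) ≤ fixedSub α := le_fixedSub_of_good M.cop T.2 hdT M.good
  -- an involution `f` outside the fixed subgroup
  obtain ⟨x, hx⟩ : ∃ x, α x ≠ x := by
    by_contra hno
    push Not at hno
    refine M.not_odd ?_
    have : commSub α ⊤ = ⊥ := le_bot_iff.1 (commSub_le_of fun y _ => by
      rw [hno y, inv_mul_cancel]; exact one_mem _)
    rw [this, Subgroup.card_bot]
    exact odd_one
  have hd2 := invol_mul_self M.good.1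
  have he2 : orderOf (x * d * x⁻¹) = 2 := (orderOf_conj_eq x d).trans M.good.1
  have hodd_e : Odd (orderOf (d * (x * d * x⁻¹))) := by
    rw [← Nat.not_even_iff_odd]
    intro hev
    obtain ⟨hw, hwd, hwe⟩ := central_invol M.good.1 he2 hev
    exact hx (M.good.mem_of_conj M.cop ((M.all_good hw (M.good.2 _ hwd)).2 _ hwe.symm))
  obtain ⟨f, c, hcf, hfd⟩ :=
    UniquePointInvolution.exists_of_odd hd2 (invol_mul_self he2) hodd_e
  have hf : orderOf f = 2 := by rw [← hcf, orderOf_conj_eq, M.good.1]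
  have hfF : α f ≠ f := fun hff => hx (M.good.mem_of_conj M.cop (by
    rw [← hfd, map_mul, map_mul, hff, M.good.fixed]))
  have hfi := invol_inv hf
  have hf2 := invol_mul_self hf
  have hiter : ∀ y, f * (f * y * f⁻¹) * f⁻¹ = y := fun y => by
    rw [hfi]; simp only [← mul_assoc, hf2, one_mul]; rw [mul_assoc, hf2, mul_one]
  -- `D = F ∩ F^f`
  let D : Subgroup L := fixedSub α ⊓ (fixedSub α).comap (MulAut.conj f).toMonoidHom
  have hD : ∀ y, y ∈ D ↔ α y = y ∧ α (f * y * f⁻¹) = f * y * f⁻¹ := fun y => Iff.rfl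
  have hfD : Norms f D := fun y hy => by
    rw [hD] at hy ⊢
    exact ⟨hy.2, by rw [hiter]; exact hy.1⟩
  have hDodd : Odd (Nat.card D) := by
    rw [odd_card_iff_no_invol]
    intro v hv hv2
    rw [hD] at hv
    exact hfF ((M.all_good hv2 hv.1).mem_of_conj M.cop hv.2)
  -- to every fixed involution its partner in the class of `f`
  have hW : ∀ t, orderOf t = 2 → α t = t →
      ∃ δ ∈ D, δ * f * δ⁻¹ * t * (δ * f * δ⁻¹) = f * d * f⁻¹ := by
    intro t ht hft
    have hs : orderOf (f * d * f⁻¹) = 2 := (orderOf_conj_eq f d).trans M.good.1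
    have hodd : Odd (orderOf (t * (f * d * f⁻¹))) := by
      rw [← Nat.not_even_iff_odd]
      intro hev
      obtain ⟨hw, hwt, hws⟩ := central_invol ht hs hev
      exact hfF (M.good.mem_of_conj M.cop
        ((M.all_good hw ((M.all_good ht hft).2 _ hwt)).2 _ hws.symm))
    obtain ⟨e, c', hce, het⟩ :=
      UniquePointInvolution.exists_of_odd (invol_mul_self ht) (invol_mul_self hs) hodd
    have he : orderOf e = 2 := by rw [← hce, orderOf_conj_eq, ht]
    have hfe : α (f * e) = f * e := by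
      refine (M.all_good ht hft).mem_of_conj M.cop ?_
      have : f * e * t * (f * e)⁻¹ = d := by
        rw [mul_inv_rev, invol_inv he]
        calc f * e * t * (e * f⁻¹) = f * (e * t * e) * f⁻¹ := by group
          _ = d := by rw [het, hiter]
      rw [this, M.good.fixed]
    set c := e * f with hc
    have hcinv : c⁻¹ = f * e := by rw [hc, mul_inv_rev, hfi, invol_inv he]
    have hcfix : α c = c := by
      rw [← inv_inv c, hcinv, map_inv, hfe]
    have hfc : f * c * f⁻¹ = c⁻¹ := by rw [hcinv, hc]; group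
    have hcD : c ∈ D := (hD c).2 ⟨hcfix, by rw [hfc, map_inv, hcfix]⟩
    obtain ⟨l, hl⟩ := odd_orderOf_of_mem hDodd hcD
    refine ⟨c ^ (l + 1), pow_mem hcD _, ?_⟩
    set δ := c ^ (l + 1) with hδ
    have hδf : f * δ * f⁻¹ = δ⁻¹ := by rw [hδ, ← conj_pow, hfc, inv_pow]
    have hδδ : δ * δ = c := by
      rw [hδ, ← pow_add, show l + 1 + (l + 1) = orderOf c + 1 by omega, pow_succ,
        pow_orderOf_eq_one, one_mul]
    have : δ * f * δ⁻¹ = e := by
      calc δ * f * δ⁻¹ = δ * (f * δ * f⁻¹)⁻¹ * f := by group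
        _ = δ * δ * f := by rw [hδf, inv_inv]
        _ = e := by rw [hδδ, hc, mul_assoc, hf2, mul_one]
    rw [this, het]
  have hDne : D ≠ ⊥ := by
    intro hbot
    have key : ∀ t, orderOf t = 2 → α t = t → t = f * (f * d * f⁻¹) * f⁻¹ := by
      intro t ht hft
      obtain ⟨δ, hδ, he⟩ := hW t ht hft
      rw [hbot, mem_bot] at hδ
      subst hδ
      rw [← he, show (1 : L) * f * 1⁻¹ = f by group]
      nth_rw 3 [← hfi]
      rw [show f * t * f⁻¹ = f * t * f⁻¹ from rfl, hiter]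
    exact hhd ((key h hh.1 hh.fixed).trans (key d M.good.1 M.good.fixed).symm)
  -- the normalizer of `D`
  set N := normalizer (D : Set L) with hNdef
  have hNfix : ∀ y ∈ N, ∀ z ∈ D, α y * z * (α y)⁻¹ = y * z * y⁻¹ := by
    intro y hy z hz
    have h1 := ((hD _).1 ((mem_normalizer_iff.1 hy z).1 hz)).1
    rwa [map_mul, map_mul, map_inv, ((hD z).1 hz).1] at h1
  have hNinv : Inv' α N := by
    intro y hy
    refine mem_normalizer_iff.2 fun z => ⟨fun hz => ?_, fun hz => ?_⟩
    · rw [hNfix y hy z hz]; exact (mem_normalizer_iff.1 hy z).1 hz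
    · have h1 : y⁻¹ * (α y * z * (α y)⁻¹) * y⁻¹⁻¹ ∈ D :=
        (mem_normalizer_iff.1 (N.inv_mem hy) _).1 hz
      have h2 := hNfix y⁻¹ (N.inv_mem hy) _ hz
      rw [map_inv] at h2
      rw [← h2] at h1
      rwa [show (α y)⁻¹ * (α y * z * (α y)⁻¹) * (α y)⁻¹⁻¹ = z by group] at h1
  have hNtop : N ≠ ⊤ := fun htop =>
    hDne (M.core D (normalizer_eq_top_iff.1 htop) hDodd)
  have hfN : f ∈ N := mem_normalizer_iff.2 fun z => ⟨hfD z, fun hz => by
    have := hfD _ hz
    rwa [hiter] at this⟩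
  -- `[N, α]` has odd order
  have hNodd : Odd (Nat.card (commSub α N)) := by
    obtain ⟨S, hS⟩ := exists_invariant_sylow (α := res hNinv) (coprime_res M.cop hNinv) 2
    have hNeven : 2 ∣ Nat.card N := by
      have := orderOf_dvd_natCard (⟨f, hfN⟩ : N)
      rwa [Subgroup.orderOf_mk, hf] at this
    obtain ⟨q, hq⟩ := exists_prime_orderOf_dvd_card' 2 (S.dvd_card_of_dvd_card hNeven)
    have hqS : (q : N) ∈ (S : Subgroup N) := q.2
    have hqα := hS _ hqS
    obtain ⟨T', hT'⟩ := (S.2.map N.subtype).exists_le_sylow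
    obtain ⟨y, hy⟩ := MulAction.exists_smul_eq L T' T
    have hconj : ∀ s : N, s ∈ (S : Subgroup N) →
        α (y * (s : L) * y⁻¹) = y * (s : L) * y⁻¹ := by
      intro s hs
      refine hTF ?_
      rw [← hy, Sylow.coe_subgroup_smul]
      exact smul_mem_pointwise_smul (s : L) (MulAut.conj y) _
        (hT' (mem_map_of_mem N.subtype hs))
    set q₀ := ((q : N) : L) with hq₀
    have hq₀2 : orderOf q₀ = 2 := by rw [hq₀, Subgroup.orderOf_coe, Subgroup.orderOf_coe, hq]
    have h1 := hconj _ hqS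
    have h2 := hconj _ hqα
    rw [coe_res, ← hq₀] at h2
    rw [← hq₀] at h1
    have hgood : Good α (y * q₀ * y⁻¹) := M.all_good ((orderOf_conj_eq y q₀).trans hq₀2) h1
    have hz : α (y * (α y)⁻¹) = y * (α y)⁻¹ := by
      refine hgood.mem_of_conj M.cop ?_
      have e : y * (α y)⁻¹ * (y * q₀ * y⁻¹) * (y * (α y)⁻¹)⁻¹ = y * α q₀ * y⁻¹ := by
        rw [show y * q₀ * y⁻¹ = α (y * q₀ * y⁻¹) from h1.symm, map_mul, map_mul, map_inv]
        group
      rw [e]; exact h2
    have hyfix : α y = y := by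
      have h3 : α y⁻¹ = y⁻¹ := fixed_of_comm_fixed M.cop (x := y⁻¹) (by
        simp only [inv_inv, map_inv] at hz ⊢; exact hz)
      rw [map_inv] at h3
      exact inv_injective h3
    have hq₀fix : α q₀ = q₀ := by
      rw [map_mul, map_mul, map_inv, hyfix] at h1
      exact mul_left_cancel (mul_right_cancel h1)
    exact M.ih N hNinv hNtop q₀ (q : N).2 (M.all_good hq₀2 hq₀fix)
  obtain ⟨k, hk, hkfix⟩ := exists_conj_fixed M.cop hNinv hNodd hfN hf2
  have hkD : ∀ z ∈ D, Commute k z := by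
    intro z hz
    clear hkfix
    induction hk using closure_induction with
    | mem k hk =>
      obtain ⟨y, hy, rfl⟩ := hk
      show y⁻¹ * α y * z = z * (y⁻¹ * α y)
      calc y⁻¹ * α y * z = y⁻¹ * (α y * z * (α y)⁻¹) * α y := by group
        _ = y⁻¹ * (y * z * y⁻¹) * α y := by rw [hNfix y hy z hz]
        _ = z * (y⁻¹ * α y) := by group
    | one => exact Commute.one_left z
    | mul _ _ _ _ h1 h2 => exact h1.mul_left h2
    | inv _ _ h1 => exact h1.inv_left
  set t := k * f * k⁻¹ with htdef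
  have htN : t ∈ N := N.mul_mem (N.mul_mem (commSub_le hNinv hk) hfN)
    (N.inv_mem (commSub_le hNinv hk))
  have ht : orderOf t = 2 := (orderOf_conj_eq k f).trans hf
  let J := {s : L // orderOf s = 2 ∧ α s = s}
  have hW' : ∀ s : J, ∃ δ ∈ D, δ * f * δ⁻¹ * s.1 * (δ * f * δ⁻¹) = f * d * f⁻¹ :=
    fun s => hW s.1 s.2.1 s.2.2
  choose δ hδ hδs using hW'
  let φ : J → J := fun s => ⟨δ s * t * (δ s)⁻¹, (orderOf_conj_eq _ _).trans ht, by
    rw [map_mul, map_mul, map_inv, ((hD _).1 (hδ s)).1, hkfix]⟩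
  have hφk : ∀ s, δ s * t * (δ s)⁻¹ = k * (δ s * f * (δ s)⁻¹) * k⁻¹ := fun s => by
    have e := (hkD _ (hδ s)).eq
    calc δ s * t * (δ s)⁻¹ = (δ s * k) * f * (δ s * k)⁻¹ := by rw [htdef]; group
      _ = (k * δ s) * f * (k * δ s)⁻¹ := by rw [e]
      _ = _ := by group
  have hφinj : Function.Injective φ := by
    intro s s' hs
    have h1 : δ s * t * (δ s)⁻¹ = δ s' * t * (δ s')⁻¹ := congrArg Subtype.val hs
    rw [hφk, hφk] at h1
    have h2 := mul_left_cancel (mul_right_cancel h1)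
    have h3 := hδs s
    rw [h2, ← hδs s'] at h3
    exact Subtype.ext (mul_left_cancel (mul_right_cancel h3))
  have hφsurj := Finite.injective_iff_surjective.1 hφinj
  obtain ⟨s₁, hs₁⟩ := hφsurj ⟨d, M.good.1, M.good.fixed⟩
  obtain ⟨s₂, hs₂⟩ := hφsurj ⟨h, hh.1, hh.fixed⟩
  have h1 : δ s₁ * t * (δ s₁)⁻¹ = d := congrArg Subtype.val hs₁
  have h2 : δ s₂ * t * (δ s₂)⁻¹ = h := congrArg Subtype.val hs₂
  have hmem : d * h ∈ D := by
    have e : d * h = δ s₁ * (t * ((δ s₁)⁻¹ * δ s₂) * t⁻¹) * (δ s₂)⁻¹ := by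
      rw [← h1, ← h2, invol_inv ht]; group
    rw [e]
    exact D.mul_mem (D.mul_mem (hδ s₁)
      ((mem_normalizer_iff.1 htN _).1 (D.mul_mem (D.inv_mem (hδ s₁)) (hδ s₂))))
      (D.inv_mem (hδ s₂))
  exact (odd_card_iff_no_invol D).1 hDodd _ hmem (pair_orderOf M.good hh hdh hhd.symm)

end Cfsg.Agent.Lib.CoprimeInvol
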