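import Cfsg.Agent.Lib.CoprimeInvol.Endgame
import Cfsg.Agent.Lib.Cores.Basic
import Cfsg.Agent.Lib.Involutions.IndexTwo

/-!
# An automorphism of coprime order fixing the centralizer of an involution

Owner: helper11. Main result `odd_card_commSub`: `[L, α]` has odd order.
-/

set_option autoImplicit false
set_option linter.unusedSectionVars false
set_option linter.style.haveILetI false

namespace Cfsg.Agent.Lib.CoprimeInvol

open Subgroup
open Cfsg.Agent.Lib.Involutions.Basic

universe u

variable {L : Type u} [Group L] {α : MulAut L} {d : L}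

theorem eq_one_or_eq_of_mem_zpowers {a z : L} (ha : a * a = 1) (hz : z ∈ zpowers a) :
    z = 1 ∨ z = a := by
  obtain ⟨k, rfl⟩ := mem_zpowers_iff.1 hz
  have ha2 : a ^ (2 : ℤ) = 1 := by rw [zpow_two, ha]
  rcases Int.even_or_odd k with ⟨m, rfl⟩ | ⟨m, rfl⟩
  · exact Or.inl (by rw [← two_mul, zpow_mul, ha2, one_zpow])
  · exact Or.inr (by rw [zpow_add_one, zpow_mul, ha2, one_zpow, one_mul])

/-- The descent of the hypothesis to a quotient. -/
theorem good_quot [Finite L] {N : Subgroup L} [N.Normal] (hN : Inv' α N) (hd : orderOf d = 2)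
    (hdN : d ∉ N) (h : ∀ x : L, x * d * x⁻¹ * d⁻¹ ∈ N → x⁻¹ * α x ∈ N) :
    Good (quot hN) (d : L ⧸ N) := by
  refine ⟨invol_iff.2 ⟨by rw [← QuotientGroup.mk_mul, invol_mul_self hd, QuotientGroup.mk_one],
    fun h1 => hdN ((QuotientGroup.eq_one_iff d).1 h1)⟩, fun y hy => ?_⟩
  induction y using QuotientGroup.induction_on with
  | _ x =>
    rw [quot_mk, eq_comm, QuotientGroup.eq]
    refine h x ((QuotientGroup.eq_one_iff _).1 ?_)
    rw [QuotientGroup.mk_mul, QuotientGroup.mk_mul, QuotientGroup.mk_mul, QuotientGroup.mk_inv,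
      QuotientGroup.mk_inv, hy.eq]
    group

theorem card_quotient_lt [Finite L] {N : Subgroup L} (hN : N ≠ ⊥) :
    Nat.card (L ⧸ N) < Nat.card L := by
  rw [card_eq_card_quotient_mul_card_subgroup N]
  refine lt_mul_of_one_lt_right Nat.card_pos ?_
  exact Finite.one_lt_card_iff_nontrivial.2 ((nontrivial_iff_ne_bot N).2 hN)

/-- If `α` has order prime to the order of `L` and fixes the centralizer of an involution
elementwise then `[L, α]` has odd order. -/
theorem odd_card_commSub : ∀ (n : ℕ) (L : Type u) [Group L] [Finite L] (α : MulAut L) (d : L),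
    Nat.card L = n → (orderOf α).Coprime (Nat.card L) → Good α d →
    Odd (Nat.card (commSub α ⊤)) := by
  intro n
  induction n using Nat.strong_induction_on with
  | _ n ihn =>
    intro L _ _ α d hn hcop hd
    haveI : Fact (Nat.Prime 2) := ⟨Nat.prime_two⟩
    by_contra hnot
    have ih : ∀ Y : Subgroup L, Inv' α Y → Y ≠ ⊤ → ∀ g ∈ Y, Good α g →
        Odd (Nat.card (commSub α Y)) := by
      intro Y hY hne g hgY hg
      rw [← map_commSub_res hY, card_subtype]
      refine ihn _ ?_ Y (res hY) ⟨g, hgY⟩ rfl (coprime_res hcop hY) ⟨?_, fun y hy => ?_⟩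
      · rw [← hn]
        exact lt_of_le_of_ne (Nat.le_of_dvd Nat.card_pos (card_subgroup_dvd_card Y))
          (fun h => hne (eq_top_of_card_eq Y h))
      · rw [Subgroup.orderOf_mk]; exact hg.1
      · exact Subtype.ext (hg.2 y (congrArg Subtype.val hy.eq))
    have hquot : ∀ (N : Subgroup L) [N.Normal] (hN : Inv' α N), N ≠ ⊥ →
        Good (quot hN) (d : L ⧸ N) →
        Odd (Nat.card ((commSub α ⊤).map (QuotientGroup.mk' N))) := by
      intro N _ hN hne hg
      rw [map_commSub_quot hN]
      exact ihn _ (hn ▸ card_quotient_lt hne) (L ⧸ N) (quot hN) d rfl (coprime_quot hcop hN) hg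
    have himage : ∀ (N : Subgroup L) [N.Normal],
        Odd (Nat.card ((commSub α ⊤).map (QuotientGroup.mk' N))) →
        ∀ t ∈ commSub α ⊤, orderOf t = 2 → t ∈ N := by
      intro N _ hodd t ht ht2
      have hmem := mem_map_of_mem (QuotientGroup.mk' N) ht
      have h1 := odd_orderOf_of_mem hodd hmem
      have h2 : orderOf (QuotientGroup.mk' N t) ∣ 2 := ht2 ▸ orderOf_map_dvd _ t
      rcases (Nat.dvd_prime Nat.prime_two).1 h2 with h3 | h3
      · exact (QuotientGroup.eq_one_iff t).1 (orderOf_eq_one_iff.1 h3)
      · rw [h3] at h1; exact absurd h1 (by decide)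
    -- the odd core is trivial
    have hcore : Cfsg.pPrimeCore 2 L = ⊥ := by
      by_contra hne
      set O := Cfsg.pPrimeCore 2 L with hO
      have hchar : O.Characteristic := Cores.pPrimeCore_characteristic 2
      have hOinv : Inv' α O := fun y hy => by
        have := mem_map_of_mem α.toMonoidHom hy
        rwa [characteristic_iff_map_eq.1 hchar α] at this
      have hOodd : Odd (Nat.card O) :=
        Nat.coprime_two_right.1 (Cores.pPrimeCore_coprime 2)
      have hdO : d ∉ O := fun h => (odd_card_iff_no_invol O).1 hOodd d h hd.1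
      have hg : Good (quot hOinv) (d : L ⧸ O) := by
        refine good_quot hOinv hd.1 hdO fun x hx => ?_
        rw [invol_inv hd.1] at hx
        have hx2 : x * d * x⁻¹ * (x * d * x⁻¹) = 1 :=
          invol_mul_self ((orderOf_conj_eq x d).trans hd.1)
        obtain ⟨l, hl⟩ := odd_orderOf_of_mem hOodd hx
        have hc := conj_half hx2 (invol_mul_self hd.1) (hl ▸ pow_orderOf_eq_one _)
        set k := (x * d * x⁻¹ * d) ^ l with hk
        have hkO : k ∈ O := pow_mem hx _
        have hcomm : Commute (k * x) d := by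
          rw [show k * (x * d * x⁻¹) * k⁻¹ = k * x * d * (k * x)⁻¹ by group] at hc
          exact mul_inv_eq_iff_eq_mul.1 hc
        have hfix := hd.2 _ hcomm
        have hx' : x = k⁻¹ * (k * x) := by group
        have e : x⁻¹ * α x = (k * x)⁻¹ * (k * (α k)⁻¹) * (k * x)⁻¹⁻¹ := by
          conv_lhs => rw [hx', map_mul (α : MulAut L) k⁻¹, hfix, map_inv]
          group
        rw [e]
        exact (inferInstance : O.Normal).conj_mem _ (O.mul_mem hkO (O.inv_mem (hOinv k hkO))) _
      refine hnot ((odd_card_iff_no_invol _).2 fun t ht ht2 => ?_)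
      exact (odd_card_iff_no_invol O).1 hOodd t (himage O (hquot O hOinv hne hg) t ht ht2) ht2
    have hcore' : ∀ N : Subgroup L, N.Normal → Odd (Nat.card N) → N = ⊥ := fun N hN hodd => by
      haveI := hN
      exact le_bot_iff.1 (hcore ▸ Cores.le_pPrimeCore (Nat.coprime_two_right.2 hodd))
    have hnc : ∀ a : L, orderOf a = 2 → α a = a → a ∉ center L := by
      intro a ha hfa hac
      have ha2 := invol_mul_self ha
      have hall : ¬ ∀ x, α x = x := fun hall => hnot (by
        rw [show commSub α ⊤ = ⊥ from le_bot_iff.1 (commSub_le_of fun y _ => by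
          rw [hall y, inv_mul_cancel]; exact one_mem _), Subgroup.card_bot]
        exact odd_one)
      have hda : d ≠ a := fun h => hall fun x => hd.2 x
        (by subst h; exact mem_center_iff.1 hac x)
      set N := zpowers a with hNdef
      haveI : N.Normal := ⟨fun z hz g => by
        rw [mem_center_iff.1 ((zpowers_le.2 hac) hz) g, mul_inv_cancel_right]; exact hz⟩
      have hNfix : ∀ z ∈ N, α z = z := fun z hz => by
        rcases eq_one_or_eq_of_mem_zpowers ha2 hz with rfl | rfl
        · exact map_one α
        · exact hfa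
      have hNinv : Inv' α N := fun z hz => by rw [hNfix z hz]; exact hz
      have hdN : d ∉ N := fun h => by
        rcases eq_one_or_eq_of_mem_zpowers ha2 h with h | h
        · exact invol_ne_one hd.1 h
        · exact hda h
      have hg : Good (quot hNinv) (d : L ⧸ N) := by
        refine good_quot hNinv hd.1 hdN fun x hx => ?_
        have hfix : α x = x := by
          refine hd.mem_of_conj hcop ?_
          have h1 := hNfix _ hx
          have e : x * d * x⁻¹ = x * d * x⁻¹ * d⁻¹ * d := by group
          rw [e, map_mul (α : MulAut L) _ d, h1, hd.fixed]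
        rw [hfix, inv_mul_cancel]; exact one_mem _
      have hNne : N ≠ ⊥ := fun h => invol_ne_one ha (zpowers_eq_bot.1 h)
      set K := commSub α ⊤ with hK
      have hodd := hquot N hNinv hNne hg
      haveI hKn : K.Normal := ⟨fun z hz g => norms_commSub_self (mem_top g) z hz⟩
      obtain ⟨t, htK, ht2⟩ : ∃ t ∈ K, orderOf t = 2 := by
        by_contra hno
        push Not at hno
        exact hnot ((odd_card_iff_no_invol _).2 hno)
      have hta : t = a := (eq_one_or_eq_of_mem_zpowers ha2 (himage N hodd t htK ht2)).resolve_left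
        (invol_ne_one ht2)
      have hNK : N ≤ K := zpowers_le.2 (hta ▸ htK)
      set ψ := (QuotientGroup.mk' N).comp K.subtype with hψ
      have hker : ψ.ker = N.subgroupOf K := by
        rw [hψ, ← MonoidHom.comap_ker, QuotientGroup.ker_mk']; rfl
      have hcardK : Nat.card K % 4 = 2 := by
        have h1 : Nat.card (K ⧸ ψ.ker) = Nat.card (K.map (QuotientGroup.mk' N)) := by
          rw [Nat.card_congr (QuotientGroup.quotientKerEquivRange ψ).toEquiv, hψ,
            MonoidHom.range_comp, range_subtype]
        have h2 : Nat.card ψ.ker = 2 := by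
          rw [hker, Nat.card_congr (subgroupOfEquivOfLe hNK).toEquiv, hNdef, Nat.card_zpowers, ha]
        rw [card_eq_card_quotient_mul_card_subgroup ψ.ker, h1, h2]
        obtain ⟨m, hm⟩ := hodd
        omega
      obtain ⟨H, hH⟩ := Involutions.IndexTwo.exists_index_two_of_mod_four hcardK
      have hHcard : Nat.card H * 2 = Nat.card K := by rw [← hH]; exact H.card_mul_index
      have hHodd : Odd (Nat.card H) := Nat.odd_iff.2 (by omega)
      have hHmem : ∀ z : K, z ∈ H ↔ Odd (orderOf z) := by
        refine fun z => ⟨fun hz => odd_orderOf_of_mem hHodd hz, fun ⟨l, hl⟩ => ?_⟩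
        have e : z = (z * z) ^ (l + 1) := by
          rw [← pow_two, ← pow_mul, show 2 * (l + 1) = orderOf z + 1 by omega, pow_succ,
            pow_orderOf_eq_one, one_mul]
        rw [e]
        exact pow_mem (mul_self_mem_of_index_two hH z) _
      have hHn : (H.map K.subtype).Normal := ⟨by
        rintro _ ⟨z, hz, rfl⟩ g
        refine ⟨⟨g * z * g⁻¹, hKn.conj_mem _ z.2 g⟩, (hHmem _).2 ?_, rfl⟩
        rw [← Subgroup.orderOf_coe, orderOf_conj_eq, Subgroup.orderOf_coe]
        exact (hHmem z).1 hz⟩
      have hHbot := hcore' _ hHn (by rw [card_subtype]; exact hHodd)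
      have hH1 : Nat.card H = 1 := by rw [← card_subtype K H, hHbot, Subgroup.card_bot]
      have hKN : N = K := eq_of_le_of_card_ge hNK (by
        rw [hNdef, Nat.card_zpowers, ha, ← hHcard, hH1])
      refine hall fun x => fixed_of_comm_fixed hcop (hNfix _ ?_)
      rw [hKN]
      exact commSub_mem (mem_top x)
    exact MinCex.absurd_endgame ⟨hcop, hd, hnot, ih, hcore', hnc⟩

end Cfsg.Agent.Lib.CoprimeInvol
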