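import Cfsg.Agent.Lib.CoprimeInvol.Centralising
import Cfsg.Agent.Lib.ZStar.UniqueCase

/-!
# A minimal counterexample: products of commuting good involutions, all fixed involutions are good

Owner: helper11.
-/

set_option autoImplicit false
set_option linter.unusedSectionVars false
set_option linter.style.haveILetI false

namespace Cfsg.Agent.Lib.CoprimeInvol

open Subgroup
open Cfsg.Agent.Lib.Involutions.Basic

universe u

variable {L : Type u} [Group L]

/-- The properties of a minimal counterexample. -/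
structure MinCex (α : MulAut L) (d : L) : Prop where
  cop : (orderOf α).Coprime (Nat.card L)
  good : Good α d
  not_odd : ¬ Odd (Nat.card (commSub α ⊤))
  ih : ∀ Y : Subgroup L, Inv' α Y → Y ≠ ⊤ → ∀ g ∈ Y, Good α g →
    Odd (Nat.card (commSub α Y))
  core : ∀ N : Subgroup L, N.Normal → Odd (Nat.card N) → N = ⊥
  no_central : ∀ a : L, orderOf a = 2 → α a = a → a ∉ center L

variable {α : MulAut L} {d : L}

theorem MinCex.usub_odd (M : MinCex α d) {a g : L} (ha : orderOf a = 2) (hfa : α a = a)
    (hg : Good α g) (hga : Commute g a) :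
    Odd (Nat.card (commSub α (centralizer ({a} : Set L)))) :=
  M.ih _ (inv_cent hfa)
    (fun h => M.no_central a ha hfa
      (mem_center_iff.2 fun x => (mem_cent.1 (h ▸ mem_top x : x ∈ centralizer ({a} : Set L))).eq))
    g (mem_cent.2 hga) hg

theorem good_of_comm_fixed' [Finite L] (hcop : (orderOf α).Coprime (Nat.card L)) {v : L}
    (hv : orderOf v = 2)
    (h : ∀ x ∈ commSub α (centralizer ({v} : Set L)), α x = x) : Good α v :=
  ⟨hv, fun _ hx => fixed_of_comm_fixed hcop (h _ (commSub_mem (mem_cent.2 hx)))⟩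

/-- Two involutions with product of even order, with the conjugacy of the first. -/
theorem even_split [Finite L] {e a : L} (he : orderOf e = 2) (ha : orderOf a = 2)
    (hev : Even (orderOf (e * a))) :
    ∃ w, orderOf w = 2 ∧ Commute w e ∧ Commute w a ∧
      ((∃ c, c * e * c⁻¹ = e * w) ∨ ∃ c, c * e * c⁻¹ = a * w) := by
  obtain ⟨hw, hwe, hwa⟩ := central_invol he ha hev
  refine ⟨_, hw, hwe, hwa, ?_⟩
  have hee := invol_mul_self he
  have hs := UniquePointInvolution.invol_semiconj hee (invol_mul_self ha)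
  have key : ∀ j, ((e * a) ^ j)⁻¹ * e * ((e * a) ^ j)⁻¹⁻¹ = e * (e * a) ^ (j + j) := fun j => by
    rw [inv_inv, ← hs, pow_add, mul_assoc]
  rcases Nat.even_or_odd (orderOf (e * a) / 2) with ⟨l, hl⟩ | ⟨l, hl⟩
  · exact Or.inl ⟨((e * a) ^ l)⁻¹, by rw [key, hl]⟩
  · refine Or.inr ⟨((e * a) ^ (l + 1))⁻¹, ?_⟩
    rw [key, hl, show l + 1 + (l + 1) = 1 + (2 * l + 1) by ring, pow_add _ 1, pow_one,
      ← mul_assoc, ← mul_assoc e e, hee, one_mul]

theorem MinCex.exists_pair [Finite L] (M : MinCex α d) :
    ∃ (T : Sylow 2 L) (h : L), d ∈ (T : Subgroup L) ∧ h ∈ (T : Subgroup L) ∧ Good α h ∧ h ≠ d ∧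
      Commute d h := by
  haveI : Fact (Nat.Prime 2) := ⟨Nat.prime_two⟩
  obtain ⟨T, hT⟩ := (IsPGroup.of_card (p := 2) (n := 1)
    (by rw [Nat.card_zpowers, M.good.1, pow_one]) :
      IsPGroup 2 (zpowers d)).exists_le_sylow
  have hdT : d ∈ (T : Subgroup L) := hT (mem_zpowers d)
  have hTF : (T : Subgroup L) ≤ fixedSub α := le_fixedSub_of_good M.cop T.2 hdT M.good
  by_contra hno
  refine M.no_central d M.good.1 M.good.fixed (mem_center_iff.2 fun x => ?_)
  have hiso : ∀ g : L, g * d * g⁻¹ ∈ T → g * d * g⁻¹ = d := by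
    intro g hgT
    by_contra hne
    set d' := g * d * g⁻¹ with hd'
    have hd'2 : orderOf d' = 2 := (orderOf_conj_eq g d).trans M.good.1
    have hd'g : Good α d' := M.good.of_conj M.cop (hTF hgT) rfl
    have hev : Even (orderOf (d * d')) := by
      rw [← Nat.not_odd_iff_even]
      intro hodd
      have h1 := UniquePointInvolution.eq_one_of_odd T.2 (mul_mem hdT hgT) hodd
      exact hne ((inv_eq_of_mul_eq_one_right h1).symm.trans (invol_inv M.good.1))
    obtain ⟨w, hw1, hw2, hdw, -, hwz, hcase⟩ := UniquePointInvolution.exists_of_even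
      (invol_mul_self M.good.1) (invol_mul_self hd'2) hev
    have hdwT : d * w ∈ (T : Subgroup L) :=
      mul_mem hdT ((zpowers_le.2 (mul_mem hdT hgT)) hwz)
    have hgood : Good α (d * w) := by
      rcases hcase with ⟨c, hc⟩ | ⟨c, hc⟩
      · exact M.good.of_conj M.cop (hTF hdwT) hc
      · exact hd'g.of_conj M.cop (hTF hdwT) hc
    exact hno ⟨T, d * w, hdT, hdwT, hgood, fun h => hw1 (mul_eq_left.1 h),
      (Commute.refl d).mul_right hdw⟩
  obtain ⟨N, hN, hodd, hmem⟩ := ZStar.UniqueCase.zstar T d M.good.1 hdT hiso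
  have h1 := hmem x
  rw [M.core N hN hodd, mem_bot, mul_inv_eq_one, mul_inv_eq_iff_eq_mul] at h1
  exact h1.symm

/-- A bad product of commuting good involutions centralises `U_i`. -/
theorem MinCex.bad_pair_centralises [Finite L] (M : MinCex α d) {g h i g₀ : L} (hg : Good α g)
    (hh : Good α h) (hgh : Commute g h) (ha : orderOf (g * h) = 2) (hbad : ¬ Good α (g * h))
    (hi : orderOf i = 2) (hfi : α i = i) (hg₀ : Good α g₀) (hg₀i : Commute g₀ i)
    (hai : Commute (g * h) i) :
    ∀ x ∈ commSub α (centralizer ({i} : Set L)), Commute (g * h) x := by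
  have hfa : α (g * h) = g * h := by rw [map_mul, hg.fixed, hh.fixed]
  intro x hx
  have hQ := inv_commSub (inv_cent hfi)
  rw [← commSub_commSub M.cop (inv_cent hfi)] at hx
  refine bad_centralises M.cop ha hfa hbad hg ?_ hQ (M.usub_odd hi hfi hg₀ hg₀i)
    (norms_commSub hfa (norms_cent hai)) x hx
  intro j hj hjg hja y hy
  have hfj : α j = j := hg.2 j hjg
  have hjh : Commute j h := by
    have := hjg.mul_right hja
    rwa [← mul_assoc, invol_mul_self hg.1, one_mul] at this
  rw [← commSub_commSub M.cop (inv_cent hfj)] at hy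
  exact pair_centralises M.cop hg hh hgh (inv_commSub (inv_cent hfj))
    (M.usub_odd hj hfj hg hjg.symm) (norms_commSub hg.fixed (norms_cent hjg.symm))
    (norms_commSub hh.fixed (norms_cent hjh.symm)) y hy

theorem MinCex.bad_pair_le [Finite L] (M : MinCex α d) {g h i g₀ : L} (hg : Good α g)
    (hh : Good α h) (hgh : Commute g h) (ha : orderOf (g * h) = 2) (hbad : ¬ Good α (g * h))
    (hi : orderOf i = 2) (hfi : α i = i) (hg₀ : Good α g₀) (hg₀i : Commute g₀ i)
    (hai : Commute (g * h) i) :
    commSub α (centralizer ({i} : Set L)) ≤ commSub α (centralizer ({g * h} : Set L)) := by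
  rw [← commSub_commSub M.cop (inv_cent hfi)]
  exact commSub_mono fun x hx => mem_cent.2
    (M.bad_pair_centralises hg hh hgh ha hbad hi hfi hg₀ hg₀i hai x hx).symm

theorem pair_orderOf {g h : L} (hg : Good α g) (hh : Good α h) (hgh : Commute g h) (hne : g ≠ h) :
    orderOf (g * h) = 2 := by
  refine invol_iff.2 ⟨?_, fun h1 => hne ?_⟩
  · rw [hgh.symm.mul_mul_mul_comm, invol_mul_self hg.1, invol_mul_self hh.1, one_mul]
  · rw [← inv_eq_of_mul_eq_one_right h1, invol_inv hg.1]

/-- A product of two commuting distinct good involutions is good. -/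
theorem MinCex.pair_good [Finite L] (M : MinCex α d) {g h : L} (hg : Good α g) (hh : Good α h)
    (hgh : Commute g h) (hne : g ≠ h) : Good α (g * h) := by
  by_contra hbad
  have ha := pair_orderOf hg hh hgh hne
  set a := g * h with hadef
  have hfa : α a = a := by rw [hadef, map_mul, hg.fixed, hh.fixed]
  have hga : Commute g a := (Commute.refl g).mul_right hgh
  have inner : ∀ x w : L, orderOf w = 2 → α w = w → Commute w (x * g * x⁻¹) → Commute w a →
      ((∃ c, c * (x * g * x⁻¹) * c⁻¹ = x * g * x⁻¹ * w) ∨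
        ∃ c, c * (x * g * x⁻¹) * c⁻¹ = a * w) →
      ∃ k ∈ commSub α (centralizer ({a} : Set L)), α (k * x) = k * x := by
    intro x w hw hfw hwe hwa hcase
    set e := x * g * x⁻¹ with he
    have he2 : orderOf e = 2 := (orderOf_conj_eq x g).trans hg.1
    have trivial_case : Good α w → ∃ k ∈ commSub α (centralizer ({a} : Set L)),
        α (k * x) = k * x := fun hwg =>
      ⟨1, one_mem _, by rw [one_mul]; exact hg.mem_of_conj M.cop (hwg.2 e hwe.symm)⟩
    rcases hcase with ⟨c, hc⟩ | ⟨c, hc⟩
    · set j := x⁻¹ * w * x with hjdef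
      have hj : orderOf j = 2 := by
        rw [hjdef, show x⁻¹ * w * x = x⁻¹ * w * x⁻¹⁻¹ by group, orderOf_conj_eq, hw]
      have hjg : Commute j g := by
        show j * g = g * j
        calc j * g = x⁻¹ * (w * e) * x := by rw [hjdef, he]; group
          _ = x⁻¹ * (e * w) * x := by rw [hwe.eq]
          _ = g * j := by rw [hjdef, he]; group
      have hfj : α j = j := hg.2 j hjg
      have hgj : Good α (g * j) := by
        refine hg.of_conj M.cop (x := x⁻¹ * c * x) (by rw [map_mul, hg.fixed, hfj]) ?_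
        calc x⁻¹ * c * x * g * (x⁻¹ * c * x)⁻¹ = x⁻¹ * (c * e * c⁻¹) * x := by rw [he]; group
          _ = x⁻¹ * (e * w) * x := by rw [hc]
          _ = g * j := by rw [hjdef, he]; group
      have hz : x⁻¹ * α x ∈ centralizer ({j} : Set L) := by
        rw [mem_cent]
        have h1 : α x * j * (α x)⁻¹ = x * j * x⁻¹ := by
          have e1 : x * j * x⁻¹ = w := by rw [hjdef]; group
          have := congrArg α e1
          rw [map_mul, map_mul, map_inv, hfj, hfw] at this
          rw [this, e1]
        show x⁻¹ * α x * j = j * (x⁻¹ * α x)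
        calc x⁻¹ * α x * j = x⁻¹ * (α x * j * (α x)⁻¹) * α x := by group
          _ = x⁻¹ * (x * j * x⁻¹) * α x := by rw [h1]
          _ = j * (x⁻¹ * α x) := by group
      obtain ⟨n, hn, hfix⟩ := exists_mul_fixed M.cop (inv_cent hfj) hz
      set f := x * n with hf
      have hwf : w = f * j * f⁻¹ := by
        rw [hf, show x * n * j * (x * n)⁻¹ = x * (n * j * n⁻¹) * x⁻¹ by group,
          mul_inv_eq_iff_eq_mul.2 (mem_cent.1 hn).eq, hjdef]
        group
      by_cases hwg : Good α w
      · exact trivial_case hwg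
      have hwprod : f * g * f⁻¹ * (f * (g * j) * f⁻¹) = w := by
        rw [hwf, show f * g * f⁻¹ * (f * (g * j) * f⁻¹) = f * (g * g * j) * f⁻¹ by group,
          invol_mul_self hg.1, one_mul]
      have hcomm' : Commute (f * g * f⁻¹) (f * (g * j) * f⁻¹) := by
        have := ((Commute.refl g).mul_right hjg.symm).map (MulAut.conj f).toMonoidHom
        simpa [MulAut.conj_apply] using this
      have hg'w : Commute (f * g * f⁻¹) w := by
        rw [← hwprod]; exact (Commute.refl _).mul_right hcomm'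
      have hle : commSub α (centralizer ({w} : Set L))
          ≤ commSub α (centralizer ({a} : Set L)) :=
        M.bad_pair_le hg hh hgh ha hbad hw hfw (hg.conj_fixed hfix) hg'w hwa.symm
      obtain ⟨k, hk, hkfix⟩ := exists_conj_fixed M.cop (inv_cent hfw)
        (M.usub_odd hw hfw (hg.conj_fixed hfix) hg'w) (mem_cent.2 hwe.symm) (invol_mul_self he2)
      refine ⟨k, hle hk, hg.mem_of_conj M.cop ?_⟩
      rwa [show k * x * g * (k * x)⁻¹ = k * e * k⁻¹ by rw [he]; group]
    · have hg₃ : Good α (a * w) := by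
        refine hg.of_conj M.cop (x := c * x) (by rw [map_mul, hfa, hfw]) ?_
        rw [← hc, he]; group
      have hg₃w : Commute (a * w) w := hwa.symm.mul_left (Commute.refl w)
      refine trivial_case (good_of_comm_fixed' M.cop hw fun z hz => hg₃.2 z ?_)
      exact ((M.bad_pair_centralises hg hh hgh ha hbad hw hfw hg₃ hg₃w hwa.symm z hz).mul_left
        (mem_cent.1 (commSub_le (inv_cent hfw) hz)).symm).symm
  have claim : ∀ x : L, ∃ k ∈ commSub α (centralizer ({a} : Set L)), α (k * x) = k * x := by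
    intro x
    have he2 : orderOf (x * g * x⁻¹) = 2 := (orderOf_conj_eq x g).trans hg.1
    have hev : Even (orderOf (x * g * x⁻¹ * a)) := even_of_not_isConj he2 ha fun hc =>
      hbad (good_of_isConj M.cop hg hfa ((isConj_iff.2 ⟨x, rfl⟩).trans hc))
    obtain ⟨w, hw, hwe, hwa, hcase⟩ := even_split he2 ha hev
    obtain ⟨k, hk, hkfix⟩ := exists_conj_fixed M.cop (inv_cent hfa) (M.usub_odd ha hfa hg hga)
      (mem_cent.2 hwa) (invol_mul_self hw)
    have hka : k * a * k⁻¹ = a :=
      mul_inv_eq_iff_eq_mul.2 (mem_cent.1 (commSub_le (inv_cent hfa) hk)).eq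
    have hcase' : (∃ c, c * (k * x * g * (k * x)⁻¹) * c⁻¹
          = k * x * g * (k * x)⁻¹ * (k * w * k⁻¹)) ∨
        ∃ c, c * (k * x * g * (k * x)⁻¹) * c⁻¹ = a * (k * w * k⁻¹) := by
      rcases hcase with ⟨c, hc⟩ | ⟨c, hc⟩
      · refine Or.inl ⟨k * c * k⁻¹, ?_⟩
        calc _ = k * (c * (x * g * x⁻¹) * c⁻¹) * k⁻¹ := by group
          _ = k * (x * g * x⁻¹ * w) * k⁻¹ := by rw [hc]
          _ = _ := by group
      · refine Or.inr ⟨k * c * k⁻¹, ?_⟩
        calc _ = k * (c * (x * g * x⁻¹) * c⁻¹) * k⁻¹ := by group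
          _ = k * a * k⁻¹ * (k * w * k⁻¹) := by rw [hc]; group
          _ = _ := by rw [hka]
    have hce : Commute (k * w * k⁻¹) (k * x * g * (k * x)⁻¹) := by
      have := hwe.map (MulAut.conj k).toMonoidHom
      rw [show k * x * g * (k * x)⁻¹ = k * (x * g * x⁻¹) * k⁻¹ by group]
      simpa [MulAut.conj_apply] using this
    have hca : Commute (k * w * k⁻¹) a := by
      have := hwa.map (MulAut.conj k).toMonoidHom
      rw [← hka]
      simpa [MulAut.conj_apply] using this
    obtain ⟨k', hk', hfix'⟩ := inner (k * x) (k * w * k⁻¹)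
      ((orderOf_conj_eq k w).trans hw) hkfix hce hca hcase'
    exact ⟨k' * k, mul_mem hk' hk, by rw [mul_assoc]; exact hfix'⟩
  have hall : ∀ x : L, α (x * a * x⁻¹) = x * a * x⁻¹ := by
    intro x
    obtain ⟨k, hk, hfix⟩ := claim x⁻¹
    have hka : k * a * k⁻¹ = a :=
      mul_inv_eq_iff_eq_mul.2 (mem_cent.1 (commSub_le (inv_cent hfa) hk)).eq
    have e : x * a * x⁻¹ = (k * x⁻¹)⁻¹ * a * (k * x⁻¹) := by
      conv_rhs => rw [← hka]
      group
    rw [e, map_mul (α : MulAut L), map_mul, map_inv, hfix, hfa]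
  have hle : commSub α ⊤ ≤ centralizer ({a} : Set L) := by
    refine commSub_le_of fun x _ => mem_cent.2 ?_
    have h1 := hall x
    rw [map_mul, map_mul, map_inv, hfa] at h1
    show x⁻¹ * α x * a = a * (x⁻¹ * α x)
    calc x⁻¹ * α x * a = x⁻¹ * (α x * a * (α x)⁻¹) * α x := by group
      _ = x⁻¹ * (x * a * x⁻¹) * α x := by rw [h1]
      _ = a * (x⁻¹ * α x) := by group
  refine M.not_odd (odd_card_of_le (M.usub_odd ha hfa hg hga) ?_)
  rw [← commSub_commSub M.cop (fun y _ => mem_top _ : Inv' α (⊤ : Subgroup L))]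
  exact commSub_mono hle

/-- An involution commuting with two good involutions whose product has even order is good. -/
theorem MinCex.good_of_two [Finite L] (M : MinCex α d) {v g g' : L} (hv : orderOf v = 2)
    (hg : Good α g) (hg' : Good α g') (hvg : Commute v g) (hvg' : Commute v g')
    (hev : Even (orderOf (g * g'))) : Good α v := by
  obtain ⟨w, hw1, -, hgw, -, hwz, hcase⟩ := UniquePointInvolution.exists_of_even
    (invol_mul_self hg.1) (invol_mul_self hg'.1) hev
  have hfw : α w = w := hg.2 w hgw.symm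
  have hgood : Good α (g * w) := by
    have hf : α (g * w) = g * w := by rw [map_mul, hg.fixed, hfw]
    rcases hcase with ⟨c, hc⟩ | ⟨c, hc⟩
    · exact hg.of_conj M.cop hf hc
    · exact hg'.of_conj M.cop hf hc
  have hprod : g * (g * w) = w := by rw [← mul_assoc, invol_mul_self hg.1, one_mul]
  have hwgood : Good α w := hprod ▸ M.pair_good hg hgood
    ((Commute.refl g).mul_right hgw) (fun h => hw1 (mul_eq_left.1 h.symm))
  have hvw : Commute v w := by
    obtain ⟨k, rfl⟩ := mem_zpowers_iff.1 hwz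
    exact (hvg.mul_right hvg').zpow_right k
  have hfv : α v = v := hg.2 v hvg
  refine good_of_comm_fixed' M.cop hv fun x hx => hwgood.2 x ?_
  rw [← commSub_commSub M.cop (inv_cent hfv)] at hx
  have := pair_centralises M.cop hg hgood ((Commute.refl g).mul_right hgw)
    (inv_commSub (inv_cent hfv)) (M.usub_odd hv hfv hg hvg.symm)
    (norms_commSub hg.fixed (norms_cent hvg.symm))
    (norms_commSub hgood.fixed (norms_cent (hvg.mul_right hvw).symm)) x hx
  rw [hprod] at this
  exact this.symm

/-- Every fixed involution is good. -/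
theorem MinCex.all_good [Finite L] (M : MinCex α d) {u : L} (hu : orderOf u = 2)
    (hfu : α u = u) : Good α u := by
  haveI : Fact (Nat.Prime 2) := ⟨Nat.prime_two⟩
  obtain ⟨T, h, hdT, hhT, hh, hhd, hdh⟩ := M.exists_pair
  have hTF : (T : Subgroup L) ≤ fixedSub α := le_fixedSub_of_good M.cop T.2 hdT M.good
  suffices key : ∀ u : L, orderOf u = 2 → u ∈ (T : Subgroup L) → Good α u by
    let uF : fixedSub α := ⟨u, hfu⟩
    obtain ⟨S, hS⟩ := (IsPGroup.of_card (p := 2) (n := 1) (by
      rw [Nat.card_zpowers, ← Subgroup.orderOf_coe uF, hu, pow_one]) :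
        IsPGroup 2 (zpowers uF)).exists_le_sylow
    obtain ⟨f, hf⟩ := MulAction.exists_smul_eq (fixedSub α) S (T.subtype hTF)
    have hmem : f * uF * f⁻¹ ∈ ((T.subtype hTF : Sylow 2 (fixedSub α)) : Subgroup (fixedSub α)) := by
      rw [← hf, Sylow.coe_subgroup_smul]
      exact smul_mem_pointwise_smul uF (MulAut.conj f) _ (hS (mem_zpowers uF))
    have hg := key ((f : L) * u * (f : L)⁻¹) ((orderOf_conj_eq _ _).trans hu) hmem
    have := hg.conj_fixed (x := (f : L)⁻¹) (by rw [map_inv, mem_fixedSub.1 f.2])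
    rwa [show (f : L)⁻¹ * ((f : L) * u * (f : L)⁻¹) * (f : L)⁻¹⁻¹ = u by group] at this
  clear hfu hu u
  intro u hu huT
  by_contra hbad
  have hfu : α u = u := hTF huT
  have hdh2 := pair_orderOf M.good hh hdh hhd.symm
  obtain ⟨z, hz, hzT, hzc⟩ : ∃ z, orderOf z = 2 ∧ z ∈ (T : Subgroup L) ∧
      ∀ y ∈ (T : Subgroup L), Commute z y := by
    have hne : Nontrivial (T : Subgroup L) :=
      ⟨⟨⟨d, hdT⟩, 1, fun h => invol_ne_one M.good.1 (congrArg Subtype.val h)⟩⟩
    have hcn : Nontrivial (Subgroup.center (T : Subgroup L)) := T.2.center_nontrivial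
    obtain ⟨m, hm0, hm⟩ := (T.2.to_subgroup _).nontrivial_iff_card.1 hcn
    obtain ⟨z, hz⟩ := exists_prime_orderOf_dvd_card' 2
      (hm ▸ dvd_pow_self 2 (by omega) : 2 ∣ Nat.card (Subgroup.center (T : Subgroup L)))
    refine ⟨((z : (T : Subgroup L)) : L), by rw [Subgroup.orderOf_coe, Subgroup.orderOf_coe, hz],
      z.1.2, fun y hy => ?_⟩
    exact congrArg Subtype.val (mem_center_iff.1 z.2 ⟨y, hy⟩).symm
  have hzgood : Good α z := M.good_of_two hz M.good hh (hzc d hdT) (hzc h hhT)
    (by rw [hdh2]; decide)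
  have huz : u ≠ z := fun h => hbad (h ▸ hzgood)
  obtain ⟨g, hgT, hg, hgu⟩ : ∃ g ∈ (T : Subgroup L), Good α g ∧ ¬ Commute u g := by
    by_contra hno
    push Not at hno
    exact hbad (M.good_of_two hu M.good hh (hno d hdT M.good) (hno h hhT hh)
      (by rw [hdh2]; decide))
  set g' := u * g * u⁻¹ with hg'def
  have hg' : Good α g' := hg.conj_fixed hfu
  have hg'T : g' ∈ (T : Subgroup L) := mul_mem (mul_mem huT hgT) (inv_mem huT)
  have hgg' : Even (orderOf (g * g')) := by
    rw [← Nat.not_odd_iff_even]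
    intro hodd
    have h1 := UniquePointInvolution.eq_one_of_odd T.2 (mul_mem hgT hg'T) hodd
    refine hgu ?_
    have h2 : u * g * u⁻¹ = g := by
      rw [← hg'def, ← inv_eq_of_mul_eq_one_right h1, invol_inv hg.1]
    exact mul_inv_eq_iff_eq_mul.1 h2
  have hzu : Commute z u := hzc u huT
  have hv : orderOf (u * z) = 2 := invol_iff.2 ⟨by
    rw [hzu.mul_mul_mul_comm, invol_mul_self hu, invol_mul_self hz, one_mul],
    fun h1 => huz (by rw [← inv_eq_of_mul_eq_one_right h1, invol_inv hu])⟩
  set v := u * z with hvdef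
  have hfv : α v = v := by rw [hvdef, map_mul, hfu, hzgood.fixed]
  have hzv : Commute z v := hzu.mul_right (Commute.refl z)
  have hvbad : ¬ Good α v := fun hvg => hbad <| by
    have := M.pair_good hvg hzgood hzv.symm
      (fun h => invol_ne_one hu (mul_eq_right.1 (hvdef ▸ h)))
    rwa [hvdef, mul_assoc, invol_mul_self hz, mul_one] at this
  refine hvbad (good_of_comm_fixed' M.cop hv fun x hx => hzgood.2 x ?_)
  have hux : Commute u x := by
    have hQ := inv_commSub (inv_cent hfv)
    have hx' := hx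
    rw [← commSub_commSub M.cop (inv_cent hfv)] at hx'
    refine bad_centralises M.cop hu hfu hbad hg ?_ hQ (M.usub_odd hv hfv hzgood hzv)
      (norms_commSub hfu (norms_cent ((Commute.refl u).mul_right hzu.symm))) x hx'
    intro i hi hig hiu y hy
    have hig' : Commute i g' := (hiu.mul_right hig).mul_right hiu.inv_right
    have higood := M.good_of_two hi hg hg' hig hig' hgg'
    have : y ∈ (⊥ : Subgroup L) := commSub_le_of (fun t ht => by
      rw [higood.2 t (mem_cent.1 ht), inv_mul_cancel]; exact one_mem _) hy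
    rw [mem_bot.1 this]
    exact Commute.one_right u
  have hxv : Commute x v := mem_cent.1 (commSub_le (inv_cent hfv) hx)
  have := hux.symm.mul_right hxv
  rwa [hvdef, ← mul_assoc, invol_mul_self hu, one_mul] at this

end Cfsg.Agent.Lib.CoprimeInvol
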